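import Mathlib
import Cfsg.Agent.Lib.Helper2.TransferBasic

set_option autoImplicit false

namespace Cfsg.Agent.Lib.Helper2

open Subgroup
open scoped IsMulCommutative

/-- **Lifting through a central extension.**  Let `τ : Q → R` be a surjection with central kernel,
`ρ : G → R` a homomorphism whose restriction to a subgroup `H` of finite index `n` lifts to `Q`.
If `a ↦ a ^ n` is bijective on `ker τ`, then `ρ` lifts to `Q`. -/
theorem exists_lift_of_central {G Q R : Type*} [Group G] [Group Q] [Group R]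
    (H : Subgroup G) [H.FiniteIndex] (τ : Q →* R) (hτ : Function.Surjective τ)
    (hc : τ.ker ≤ Subgroup.center Q) (ρ : G →* R) (π : H →* Q)
    (hπ : ∀ h : H, τ (π h) = ρ h)
    (hn : Function.Bijective (fun a : τ.ker => a ^ H.index)) :
    ∃ σ : G →* Q, ∀ g, τ (σ g) = ρ g := by
  classical
  haveI hAc : IsMulCommutative τ.ker := ⟨⟨fun a b => by
    apply Subtype.ext
    exact ((Subgroup.mem_center_iff.mp (hc a.2)) b.1).symm⟩⟩
  let E : Subgroup (G × Q) :=
    (ρ.comp (MonoidHom.fst G Q)).eqLocus (τ.comp (MonoidHom.snd G Q))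
  have hE : ∀ z : G × Q, z ∈ E ↔ ρ z.1 = τ z.2 := fun z => Iff.rfl
  let pr1 : E →* G := (MonoidHom.fst G Q).comp E.subtype
  let pr2 : E →* Q := (MonoidHom.snd G Q).comp E.subtype
  have hpr : ∀ z : E, ρ (pr1 z) = τ (pr2 z) := fun z => z.2
  have hpr1 : Function.Surjective pr1 := by
    intro g
    obtain ⟨y, hy⟩ := hτ (ρ g)
    exact ⟨⟨(g, y), (hE _).mpr hy.symm⟩, rfl⟩
  let Hh : Subgroup E := H.comap pr1
  have hidx : Hh.index = H.index := Subgroup.index_comap_of_surjective H hpr1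
  haveI : Hh.FiniteIndex := ⟨by rw [hidx]; exact Subgroup.FiniteIndex.index_ne_zero⟩
  have hmem : ∀ e : Hh, (π ⟨pr1 e.1, e.2⟩)⁻¹ * pr2 e.1 ∈ τ.ker := by
    intro e
    rw [MonoidHom.mem_ker, map_mul, map_inv, hπ, ← hpr]
    simp
  let ϕ : Hh →* τ.ker :=
    { toFun := fun e => ⟨(π ⟨pr1 e.1, e.2⟩)⁻¹ * pr2 e.1, hmem e⟩
      map_one' := by
        apply Subtype.ext
        have : (⟨pr1 (1 : Hh).1, (1 : Hh).2⟩ : H) = 1 := rfl
        change (π ⟨pr1 (1 : Hh).1, (1 : Hh).2⟩)⁻¹ * pr2 (1 : Hh).1 = 1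
        rw [this]; simp
      map_mul' := by
        intro e e'
        apply Subtype.ext
        have h1 : (⟨pr1 (e * e').1, (e * e').2⟩ : H) = ⟨pr1 e.1, e.2⟩ * ⟨pr1 e'.1, e'.2⟩ := rfl
        change (π ⟨pr1 (e * e').1, (e * e').2⟩)⁻¹ * pr2 (e * e').1 =
          ((π ⟨pr1 e.1, e.2⟩)⁻¹ * pr2 e.1) * ((π ⟨pr1 e'.1, e'.2⟩)⁻¹ * pr2 e'.1)
        rw [h1, map_mul]
        have h2 : pr2 (e * e').1 = pr2 e.1 * pr2 e'.1 := map_mul pr2 e.1 e'.1
        rw [h2]
        have h3 := (Subgroup.mem_center_iff.mp (hc (hmem e))) (π ⟨pr1 e'.1, e'.2⟩)⁻¹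
        calc (π ⟨pr1 e.1, e.2⟩ * π ⟨pr1 e'.1, e'.2⟩)⁻¹ * (pr2 e.1 * pr2 e'.1)
            = ((π ⟨pr1 e'.1, e'.2⟩)⁻¹ * ((π ⟨pr1 e.1, e.2⟩)⁻¹ * pr2 e.1)) * pr2 e'.1 := by group
          _ = (((π ⟨pr1 e.1, e.2⟩)⁻¹ * pr2 e.1) * (π ⟨pr1 e'.1, e'.2⟩)⁻¹) * pr2 e'.1 := by rw [h3]
          _ = _ := by group }
  let V : E →* τ.ker := MonoidHom.transfer ϕ
  -- the central elements `(1, a)`
  let hat : τ.ker → E := fun a => ⟨(1, a.1), by rw [hE]; simp [MonoidHom.mem_ker.mp a.2]⟩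
  have hhat : ∀ a : τ.ker, V (hat a) = a ^ H.index := by
    intro a
    have hz : hat a ∈ Subgroup.center E := by
      rw [Subgroup.mem_center_iff]
      intro e
      apply Subtype.ext
      apply Prod.ext
      · simp [hat]
      · exact (Subgroup.mem_center_iff.mp (hc a.2)) e.1.2
    have hzH : hat a ∈ Hh := by
      change pr1 (hat a) ∈ H
      exact H.one_mem
    rw [transfer_central_eq_pow ϕ (hat a) hz hzH, hidx]
    congr 1
    apply Subtype.ext
    change (π ⟨1, _⟩)⁻¹ * a.1 = a.1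
    have : (⟨1, H.one_mem⟩ : H) = 1 := rfl
    rw [this]; simp
  let B : Subgroup E := V.ker
  let pr1B : B →* G := pr1.comp B.subtype
  have hbij : Function.Bijective pr1B := by
    constructor
    · rw [injective_iff_map_eq_one]
      intro b hb
      have hb1 : pr1 b.1 = 1 := hb
      have hb2 : pr2 b.1 ∈ τ.ker := by
        rw [MonoidHom.mem_ker, ← hpr, hb1, map_one]
      have hb3 : b.1 = hat ⟨pr2 b.1, hb2⟩ := by
        apply Subtype.ext
        apply Prod.ext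
        · exact hb1
        · rfl
      have hb4 : V b.1 = 1 := b.2
      rw [hb3, hhat] at hb4
      have hb5 : (⟨pr2 b.1, hb2⟩ : τ.ker) = 1 := by
        apply hn.1
        change (⟨pr2 b.1, hb2⟩ : τ.ker) ^ H.index = 1 ^ H.index
        rw [hb4, one_pow]
      apply Subtype.ext
      rw [hb3, hb5]
      rfl
    · intro g
      obtain ⟨e, he⟩ := hpr1 g
      obtain ⟨a, ha⟩ := hn.2 (V e)⁻¹
      have ha' : a ^ H.index = (V e)⁻¹ := ha
      refine ⟨⟨e * hat a, ?_⟩, ?_⟩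
      · change V (e * hat a) = 1
        rw [map_mul, hhat, ha', mul_inv_cancel]
      · change pr1 (e * hat a) = g
        rw [map_mul, he]
        change g * 1 = g
        rw [mul_one]
  let eqv : B ≃* G := MulEquiv.ofBijective pr1B hbij
  refine ⟨(pr2.comp B.subtype).comp eqv.symm.toMonoidHom, fun g => ?_⟩
  change τ (pr2 (eqv.symm g).1) = ρ g
  rw [← hpr]
  congr 1
  exact eqv.apply_symm_apply g

end Cfsg.Agent.Lib.Helper2
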