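import Mathlib
import Cfsg.Agent.Lib.Helper2.CentralLift
import Cfsg.Agent.Lib.Helper2.PComplement

set_option autoImplicit false

universe u

namespace Cfsg.Agent.Lib.Helper2

open Subgroup
open scoped IsMulCommutative commutatorElement

theorem eq_bot_of_le_commutator_top {Y : Type*} [Group Y] [hY : Group.IsNilpotent Y] (N : Subgroup Y)
    (h : N ≤ ⁅N, (⊤ : Subgroup Y)⁆) : N = ⊥ := by
  obtain ⟨n, hn⟩ := Subgroup.nilpotent_iff_lowerCentralSeries.mp hY
  have key : ∀ k, N ≤ Subgroup.lowerCentralSeries (⊤ : Subgroup Y) k := by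
    intro k
    induction k with
    | zero => exact le_top
    | succ k ih =>
      rw [Subgroup.lowerCentralSeries_succ]
      exact h.trans (Subgroup.commutator_mono ih le_rfl)
  rw [eq_bot_iff, ← hn]
  exact key n

/-- One step of the extension argument: if `V → V/L` extends to `G`, `L/K` is central in the
`p`-group `V/K`, the index of `V` is prime to `p` and homomorphisms from `V` to abelian `p`-groups
extend to `G`, then `V → V/K` extends to `G`. -/
theorem extension_step {G : Type u} [Group G] [Finite G] {p : ℕ} [Fact p.Prime] (V : Subgroup G)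
    (hV : Nat.Coprime V.index p)
    (hext : ∀ (A : Type u) [CommGroup A] [Finite A], IsPGroup p A → ∀ δ : V →* A,
      ∃ δ' : G →* A, ∀ v : V, δ' v = δ v)
    (L K : Subgroup V) [L.Normal] [K.Normal] (hKL : K ≤ L) (hc : ⁅L, (⊤ : Subgroup V)⁆ ≤ K)
    (hK : IsPGroup p (V ⧸ K))
    (σ : G →* V ⧸ L) (hσ : ∀ v : V, σ v = QuotientGroup.mk' L v) :
    ∃ σ' : G →* V ⧸ K, ∀ v : V, σ' v = QuotientGroup.mk' K v := by
  have hp : p.Prime := Fact.out
  let τ : V ⧸ K →* V ⧸ L := QuotientGroup.lift K (QuotientGroup.mk' L) (by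
    intro x hx
    rw [MonoidHom.mem_ker]
    exact (QuotientGroup.eq_one_iff x).mpr (hKL hx))
  have hτmk : ∀ v : V, τ (QuotientGroup.mk' K v) = QuotientGroup.mk' L v := fun v => rfl
  have hτ : Function.Surjective τ := by
    intro y
    obtain ⟨v, rfl⟩ := QuotientGroup.mk'_surjective L y
    exact ⟨QuotientGroup.mk' K v, hτmk v⟩
  have hcen : τ.ker ≤ Subgroup.center (V ⧸ K) := by
    intro y hy
    obtain ⟨x, rfl⟩ := QuotientGroup.mk'_surjective K y
    rw [MonoidHom.mem_ker, hτmk] at hy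
    have hx : x ∈ L := (QuotientGroup.eq_one_iff x).mp hy
    rw [Subgroup.mem_center_iff]
    intro z
    obtain ⟨w, rfl⟩ := QuotientGroup.mk'_surjective K z
    rw [← map_mul, ← map_mul]
    apply QuotientGroup.eq.mpr
    have : (w * x)⁻¹ * (x * w) = ⁅x⁻¹, w⁻¹⁆ := by rw [commutatorElement_def]; group
    rw [this]
    exact hc (Subgroup.commutator_mem_commutator (L.inv_mem hx) (Subgroup.mem_top _))
  haveI hAc : IsMulCommutative τ.ker := ⟨⟨fun a b => by
    apply Subtype.ext
    exact ((Subgroup.mem_center_iff.mp (hcen a.2)) b.1).symm⟩⟩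
  have hA : IsPGroup p τ.ker := hK.to_subgroup _
  have hn : Function.Bijective (fun a : τ.ker => a ^ V.index) :=
    (hA.powEquiv hV.symm).bijective
  obtain ⟨σ', hσ'⟩ := exists_lift_of_central V τ hτ hcen σ (QuotientGroup.mk' K)
    (fun h => by rw [hτmk, hσ]) hn
  have hmem : ∀ v : V, (QuotientGroup.mk' K v)⁻¹ * σ' v ∈ τ.ker := by
    intro v
    rw [MonoidHom.mem_ker, map_mul, map_inv, hτmk, hσ', hσ, inv_mul_cancel]
  let δ : V →* τ.ker :=
    { toFun := fun v => ⟨(QuotientGroup.mk' K v)⁻¹ * σ' v, hmem v⟩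
      map_one' := by apply Subtype.ext; simp
      map_mul' := by
        intro v w
        apply Subtype.ext
        change (QuotientGroup.mk' K (v * w))⁻¹ * σ' ((v * w : V) : G) =
          ((QuotientGroup.mk' K v)⁻¹ * σ' v) * ((QuotientGroup.mk' K w)⁻¹ * σ' w)
        have h3 := (Subgroup.mem_center_iff.mp (hcen (hmem v))) (QuotientGroup.mk' K w)⁻¹
        rw [map_mul, Subgroup.coe_mul, map_mul]
        calc (QuotientGroup.mk' K v * QuotientGroup.mk' K w)⁻¹ * (σ' v * σ' w)
            = ((QuotientGroup.mk' K w)⁻¹ * ((QuotientGroup.mk' K v)⁻¹ * σ' v)) * σ' w := by group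
          _ = (((QuotientGroup.mk' K v)⁻¹ * σ' v) * (QuotientGroup.mk' K w)⁻¹) * σ' w := by rw [h3]
          _ = _ := by group }
  obtain ⟨δ', hδ'⟩ := hext τ.ker hA δ
  refine ⟨{ toFun := fun g => σ' g * ((δ' g : τ.ker) : V ⧸ K)⁻¹
            map_one' := by simp
            map_mul' := ?_ }, ?_⟩
  · intro g h
    have h3 := (Subgroup.mem_center_iff.mp (hcen (δ' g)⁻¹.2)) (σ' h)
    rw [map_mul, map_mul, Subgroup.coe_mul, mul_inv_rev]
    have h4 := (Subgroup.mem_center_iff.mp (hcen (δ' g)⁻¹.2)) ((δ' h : τ.ker) : V ⧸ K)⁻¹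
    simp only [Subgroup.coe_inv] at h3 h4
    calc σ' g * σ' h * (((δ' h : τ.ker) : V ⧸ K)⁻¹ * ((δ' g : τ.ker) : V ⧸ K)⁻¹)
        = σ' g * (σ' h * ((δ' g : τ.ker) : V ⧸ K)⁻¹) * ((δ' h : τ.ker) : V ⧸ K)⁻¹ := by
          rw [h4]; group
      _ = σ' g * (((δ' g : τ.ker) : V ⧸ K)⁻¹ * σ' h) * ((δ' h : τ.ker) : V ⧸ K)⁻¹ := by rw [h3]
      _ = _ := by group
  · intro v
    change σ' v * ((δ' v : τ.ker) : V ⧸ K)⁻¹ = _
    rw [hδ']
    change σ' v * ((QuotientGroup.mk' K v)⁻¹ * σ' v)⁻¹ = _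
    group

/-- **Tate-type extension theorem.**  If `V ≤ G` has index prime to `p` and every homomorphism from
`V` to an abelian `p`-group extends to `G`, then every `p`-quotient `V → V/W` extends to `G`. -/
theorem exists_extension_of_pQuotient {G : Type u} [Group G] [Finite G] {p : ℕ} [Fact p.Prime]
    (V : Subgroup G) (hV : Nat.Coprime V.index p)
    (hext : ∀ (A : Type u) [CommGroup A] [Finite A], IsPGroup p A → ∀ δ : V →* A,
      ∃ δ' : G →* A, ∀ v : V, δ' v = δ v)
    (W : Subgroup V) [hWn : W.Normal] (hW : IsPGroup p (V ⧸ W)) :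
    ∃ σ : G →* V ⧸ W, ∀ v : V, σ v = QuotientGroup.mk' W v := by
  let Good : Subgroup V → Prop := fun L => W ≤ L ∧ ∃ (_ : L.Normal), ∃ σ : G →* V ⧸ L,
    ∀ v : V, σ v = QuotientGroup.mk' L v
  have htop : Good ⊤ := ⟨le_top, inferInstance, 1, fun v =>
    (QuotientGroup.subsingleton_quotient_top (G := V)).elim _ _⟩
  obtain ⟨L, hL⟩ := (Set.toFinite {L | Good L}).exists_minimal ⟨⊤, htop⟩
  obtain ⟨hWL, hLn, σ, hσ⟩ := hL.prop
  set K := ⁅L, (⊤ : Subgroup V)⁆ ⊔ W with hKdef
  haveI hKn : K.Normal := inferInstance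
  have hKL : K ≤ L := sup_le (Subgroup.commutator_le_left L ⊤) hWL
  have hKp : IsPGroup p (V ⧸ K) := by
    intro y
    obtain ⟨v, rfl⟩ := QuotientGroup.mk'_surjective K y
    obtain ⟨k, hk⟩ := hW (QuotientGroup.mk' W v)
    refine ⟨k, ?_⟩
    rw [← map_pow] at hk ⊢
    exact (QuotientGroup.eq_one_iff _).mpr
      ((le_sup_right : W ≤ K) ((QuotientGroup.eq_one_iff _).mp hk))
  have hKgood : Good K := by
    refine ⟨le_sup_right, hKn, ?_⟩
    exact extension_step V hV hext L K hKL le_sup_left hKp σ hσ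
  have hLK : L ≤ K := hL.le_of_le hKgood hKL
  haveI : Group.IsNilpotent (V ⧸ W) := hW.isNilpotent
  have hmap : L.map (QuotientGroup.mk' W) = ⊥ := by
    apply eq_bot_of_le_commutator_top
    calc L.map (QuotientGroup.mk' W) ≤ K.map (QuotientGroup.mk' W) := Subgroup.map_mono hLK
      _ = ⁅L.map (QuotientGroup.mk' W), (⊤ : Subgroup (V ⧸ W))⁆ := by
        rw [hKdef, Subgroup.map_sup, Subgroup.map_commutator,
          Subgroup.map_top_of_surjective _ (QuotientGroup.mk'_surjective W)]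
        have : W.map (QuotientGroup.mk' W) = ⊥ := by
          rw [← le_bot_iff, Subgroup.map_le_iff_le_comap]
          intro x hx
          rw [Subgroup.mem_comap, Subgroup.mem_bot]
          exact (QuotientGroup.eq_one_iff x).mpr hx
        rw [this, sup_bot_eq]
  have hLW : L = W := by
    apply le_antisymm _ hWL
    intro x hx
    have : QuotientGroup.mk' W x ∈ L.map (QuotientGroup.mk' W) := Subgroup.mem_map_of_mem _ hx
    rw [hmap, Subgroup.mem_bot] at this
    exact (QuotientGroup.eq_one_iff x).mp this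
  subst hLW
  exact ⟨σ, hσ⟩

/-- If `V ≥ P` controls fusion of elements of the Sylow subgroup `P`, every homomorphism from `V`
to a finite abelian `p`-group extends to `G`. -/
theorem exists_extension_of_control {G : Type*} [Group G] [Finite G] {p : ℕ} [Fact p.Prime]
    (P : Sylow p G) (V : Subgroup G) (hPV : (P : Subgroup G) ≤ V)
    (hK : ∀ x ∈ P, ∀ g : G, g * x * g⁻¹ ∈ P → ∃ k ∈ V, k * x * k⁻¹ = g * x * g⁻¹)
    (A : Type*) [CommGroup A] [Finite A] (hA : IsPGroup p A) (δ : V →* A) :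
    ∃ δ' : G →* A, ∀ v : V, δ' v = δ v := by
  have hp : p.Prime := Fact.out
  let δP : (P : Subgroup G) →* A := δ.comp (Subgroup.inclusion hPV)
  have hkill : (P : Subgroup G).focalSubgroupOf ≤ δP.ker := by
    rw [Subgroup.focalSubgroupOf_eq_closure, Subgroup.closure_le]
    rintro g ⟨x, hx, u, hg⟩
    have h1 : u * x⁻¹ * u⁻¹ ∈ P := by
      have : u * x⁻¹ * u⁻¹ = x⁻¹ * ⁅x, u⁆ := by rw [commutatorElement_def]; group
      rw [this, ← hg]
      exact (P : Subgroup G).mul_mem ((P : Subgroup G).inv_mem hx) g.2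
    obtain ⟨k, hk, hk'⟩ := hK x⁻¹ ((P : Subgroup G).inv_mem hx) u h1
    have h2 : ⁅x, u⁆ = ⁅x, k⁆ := by
      rw [commutatorElement_def, commutatorElement_def, mul_assoc, mul_assoc, mul_assoc, mul_assoc,
        ← mul_assoc u, ← mul_assoc k, hk']
    change δP g = 1
    have h3 : Subgroup.inclusion hPV g = ⁅(⟨x, hPV hx⟩ : V), (⟨k, hk⟩ : V)⁆ := by
      apply Subtype.ext
      change (g : G) = ⁅x, k⁆
      rw [hg, h2]
    change δ (Subgroup.inclusion hPV g) = 1
    rw [h3, map_commutatorElement, commutatorElement_eq_one_iff_commute]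
    exact Commute.all _ _
  let δbar : (P : Subgroup G) ⧸ (P : Subgroup G).focalSubgroupOf →* A :=
    QuotientGroup.lift _ δP hkill
  let T : G →* A := δbar.comp (P : Subgroup G).transferFocal
  have hT : ∀ x : (P : Subgroup G), T x = (δP x) ^ (P : Subgroup G).index := by
    intro x
    change δbar ((P : Subgroup G).transferFocal x) = _
    rw [Subgroup.transferFocal_eq_pow, map_pow]
    rfl
  have hn : p.Coprime (P : Subgroup G).index := (Nat.Prime.coprime_iff_not_dvd hp).mpr P.not_dvd_index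
  let e : A ≃* A := MulEquiv.ofBijective (powMonoidHom (P : Subgroup G).index)
    ((hA.powEquiv hn).bijective)
  let δ' : G →* A := e.symm.toMonoidHom.comp T
  have hδ' : ∀ x : (P : Subgroup G), δ' x = δP x := by
    intro x
    change e.symm (T x) = δP x
    rw [hT, MulEquiv.symm_apply_eq]
    rfl
  refine ⟨δ', ?_⟩
  have htop : (δ'.comp V.subtype).eqLocus δ = ⊤ := by
    rw [eq_top_iff, ← pResidual_sup_sylow (P.subtype hPV)]
    apply sup_le
    · intro v hv
      change (δ'.comp V.subtype) v = δ v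
      have h1 := pResidual_le_ker hA (δ'.comp V.subtype) hv
      have h2 := pResidual_le_ker hA δ hv
      rw [MonoidHom.mem_ker] at h1 h2
      rw [h1, h2]
    · intro v hv
      have hv' : (v : G) ∈ (P : Subgroup G) := hv
      change δ' (v : G) = δ v
      exact hδ' ⟨v, hv'⟩
  intro v
  have : v ∈ (δ'.comp V.subtype).eqLocus δ := by rw [htop]; exact Subgroup.mem_top v
  exact this

/-- If `V ≥ P` controls fusion of elements of the Sylow subgroup `P`, then
`P ∩ O^p(G) = P ∩ O^p(V)`. -/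
theorem inf_pResidual_eq_of_control {G : Type*} [Group G] [Finite G] {p : ℕ} [Fact p.Prime]
    (P : Sylow p G) (V : Subgroup G) (hPV : (P : Subgroup G) ≤ V)
    (hK : ∀ x ∈ P, ∀ g : G, g * x * g⁻¹ ∈ P → ∃ k ∈ V, k * x * k⁻¹ = g * x * g⁻¹) :
    (P : Subgroup G) ⊓ Cfsg.pResidual p G = (P : Subgroup G) ⊓ (Cfsg.pResidual p V).map V.subtype := by
  have hp : p.Prime := Fact.out
  apply le_antisymm
  · refine le_inf inf_le_left ?_
    have hV : Nat.Coprime V.index p := by
      have h1 : V.index ∣ (P : Subgroup G).index := Subgroup.index_dvd_of_le hPV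
      have hn : p.Coprime (P : Subgroup G).index :=
        (Nat.Prime.coprime_iff_not_dvd hp).mpr P.not_dvd_index
      exact (Nat.Coprime.coprime_dvd_right h1 hn).symm
    obtain ⟨σ, hσ⟩ := exists_extension_of_pQuotient V hV
      (fun A _ _ hA δ => exists_extension_of_control P V hPV hK A hA δ)
      (Cfsg.pResidual p V) (isPGroup_quotient_pResidual p)
    intro x hx
    have h1 : x ∈ σ.ker := pResidual_le_ker (isPGroup_quotient_pResidual p) σ hx.2
    rw [MonoidHom.mem_ker] at h1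
    have h2 := hσ ⟨x, hPV hx.1⟩
    rw [h1] at h2
    exact Subgroup.mem_map.mpr ⟨⟨x, hPV hx.1⟩, (QuotientGroup.eq_one_iff _).mp h2.symm, rfl⟩
  · exact inf_le_inf_left _ (map_pResidual_subtype_le p V)

end Cfsg.Agent.Lib.Helper2
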