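import Mathlib

set_option autoImplicit false

namespace Cfsg.Agent.Lib.Helper2

open Subgroup
open scoped commutatorElement

variable {P : Type*} [Group P]

theorem mul_eq_commutator_mul (y x : P) : y * x = ⁅y, x⁆ * (x * y) := by
  rw [commutatorElement_def]; group

/-- `y^n x = c^n x y^n` when `y x = c x y` with `c` commuting with `y`. -/
theorem pow_mul_class2 {x y c : P} (hyx : y * x = c * (x * y)) (hcy : Commute c y) (n : ℕ) :
    y ^ n * x = c ^ n * (x * y ^ n) := by
  induction n with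
  | zero => simp
  | succ n ih =>
    have h1 : Commute y (c ^ n) := (hcy.symm).pow_right n
    calc y ^ (n + 1) * x = y * (y ^ n * x) := by rw [pow_succ', mul_assoc]
      _ = y * (c ^ n * (x * y ^ n)) := by rw [ih]
      _ = (y * c ^ n) * (x * y ^ n) := by rw [mul_assoc]
      _ = (c ^ n * y) * (x * y ^ n) := by rw [h1.eq]
      _ = c ^ n * ((y * x) * y ^ n) := by simp only [mul_assoc]
      _ = c ^ n * ((c * (x * y)) * y ^ n) := by rw [hyx]
      _ = c ^ (n + 1) * (x * y ^ (n + 1)) := by rw [pow_succ, pow_succ']; simp only [mul_assoc]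

/-- `(x y)^n = c^(n choose 2) x^n y^n` when `y x = c x y`, `c` commuting with `x` and `y`. -/
theorem mul_pow_class2 {x y c : P} (hyx : y * x = c * (x * y)) (hcx : Commute c x) (hcy : Commute c y)
    (n : ℕ) : (x * y) ^ n = c ^ (n.choose 2) * (x ^ n * y ^ n) := by
  induction n with
  | zero => simp
  | succ n ih =>
    have h1 : Commute (x ^ n) (c ^ n) := ((hcx.symm).pow_left n).pow_right n
    have h2 : (n + 1).choose 2 = n.choose 2 + n := by
      rw [Nat.choose_succ_succ' n 1, Nat.choose_one_right, add_comm]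
    calc (x * y) ^ (n + 1) = (x * y) ^ n * (x * y) := pow_succ _ _
      _ = c ^ (n.choose 2) * (x ^ n * y ^ n) * (x * y) := by rw [ih]
      _ = c ^ (n.choose 2) * (x ^ n * ((y ^ n * x) * y)) := by simp only [mul_assoc]
      _ = c ^ (n.choose 2) * (x ^ n * ((c ^ n * (x * y ^ n)) * y)) := by rw [pow_mul_class2 hyx hcy n]
      _ = c ^ (n.choose 2) * ((x ^ n * c ^ n) * ((x * y ^ n) * y)) := by simp only [mul_assoc]
      _ = c ^ (n.choose 2) * ((c ^ n * x ^ n) * ((x * y ^ n) * y)) := by rw [h1.eq]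
      _ = c ^ ((n + 1).choose 2) * (x ^ (n + 1) * y ^ (n + 1)) := by
        rw [h2, pow_add, pow_succ x, pow_succ y]; simp only [mul_assoc]

/-- `[y^n, x] = [y,x]^n` when `[y,x]` commutes with `y`. -/
theorem commutator_pow_left_class2 {x y : P} (hcy : Commute ⁅y, x⁆ y) (n : ℕ) :
    ⁅y ^ n, x⁆ = ⁅y, x⁆ ^ n := by
  have h := pow_mul_class2 (mul_eq_commutator_mul y x) hcy n
  rw [commutatorElement_def (y ^ n) x, h]
  group

theorem mul_pow_prime_class2 {p : ℕ} (hp : p.Prime) (hp2 : p ≠ 2) {x y : P}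
    (hcx : Commute ⁅y, x⁆ x) (hcy : Commute ⁅y, x⁆ y) (hc : ⁅y, x⁆ ^ p = 1) :
    (x * y) ^ p = x ^ p * y ^ p := by
  rw [mul_pow_class2 (mul_eq_commutator_mul y x) hcx hcy p]
  have h2 : p ∣ p.choose 2 := hp.dvd_choose_self (by norm_num)
    (lt_of_le_of_ne hp.two_le (Ne.symm hp2))
  obtain ⟨k, hk⟩ := h2
  rw [hk, pow_mul, hc, one_pow, one_mul]

end Cfsg.Agent.Lib.Helper2
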