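import Mathlib
import Cfsg.Agent.Lib.Helper2.FusCtl1
import Cfsg.Agent.Lib.Helper2.FusCtl2
import Cfsg.Agent.Lib.Helper84.FusionNormSys
import Cfsg.Agent.Lib.Helper87.GenExtra3

set_option autoImplicit false

/-! The systems `N_F^K(Q)` over `S` for `Q` normal in `S` (helper2). -/

namespace Cfsg.Agent.Lib.Helper2

open Cfsg Cfsg.FusionSystem Cfsg.Agent.Lib.Helper84
open Cfsg.Agent.Lib.Helper85 (SylIn sylIn_iff_card sylIn_of_card_le)

variable {Ω : Type*} [Group Ω] {S : Subgroup Ω}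

theorem hconj_of_normal {Q : Subgroup Ω} (hQn : S ≤ Subgroup.normalizer (Q : Set Ω))
    (K : Subgroup (MulAut Q)) (hK : autInducedBy S Q ≤ K) :
    ∀ g ∈ S, ∃ a ∈ K, ∀ x : Q, g * (x : Ω) * g⁻¹ = (a x : Q) :=
  fun g hg => ⟨conjAut Q g (hQn hg),
    hK ((mem_autInducedBy_iff S Q _).2 ⟨g, hg, fun _ => rfl⟩), fun _ => rfl⟩

theorem normK_eq_of_normal {Q : Subgroup Ω} (hQn : S ≤ Subgroup.normalizer (Q : Set Ω))
    (K : Subgroup (MulAut Q)) (hK : autInducedBy S Q ≤ K) : normK S Q K = S := by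
  apply le_antisymm (normK_le' S Q K)
  intro g hg
  obtain ⟨a, ha, h⟩ := hconj_of_normal hQn K hK g hg
  exact ⟨hg, a, ha, fun x => (h x).symm⟩

theorem kSystem_saturated [Finite S] {p : ℕ} [Fact p.Prime] (hS : IsPGroup p S)
    {F : FusionSystem S} (hF : F.IsSaturated p) {Q : Subgroup Ω} (hQ : Q ≤ S)
    (hQn : S ≤ Subgroup.normalizer (Q : Set Ω)) (K : Subgroup (MulAut Q))
    (hK : autInducedBy S Q ≤ K)
    (hsyl : SylIn p (autInducedBy S Q ⊓ K) (F.autGroup Q ⊓ K)) :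
    (kSystem F Q K hQ (hconj_of_normal hQn K hK)).IsSaturated p := by
  have hfn := Cfsg.Agent.Lib.Helper87.fullyNormalized_of_normal F hQ hQn
  obtain ⟨-, -, h3⟩ := sat_fullyNormalized hS hF hfn
  have hN := normK_eq_of_normal hQn K hK
  apply knorm_saturated hS hF (Q := Q) (K := K) ⟨h3, hsyl⟩ hN.symm
  intro P φ
  rw [mem_kSystem_hom]
  constructor
  · rintro ⟨hφ, ψ, hψ, h1, h2⟩
    refine ⟨?_, ?_, ψ, hψ, h1, h2⟩
    · rw [hN]; exact (F.le_of_mem hφ).1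
    · intro x; rw [hN]; exact (F.le_of_mem hφ).2 x
  · rintro ⟨-, -, ψ, hψ, h1, h2⟩
    refine ⟨?_, ψ, hψ, h1, h2⟩
    have : φ = ψ.comp (Subgroup.inclusion le_sup_left) := by
      ext x
      exact (h1 x).symm
    rw [this]
    exact restrict_mem F hψ le_sup_left

theorem kSystem_top_saturated [Finite S] {p : ℕ} [Fact p.Prime] (hS : IsPGroup p S)
    {F : FusionSystem S} (hF : F.IsSaturated p) {Q : Subgroup Ω} (hQ : Q ≤ S)
    (hQn : S ≤ Subgroup.normalizer (Q : Set Ω)) :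
    (kSystem F Q ⊤ hQ (hconj_of_normal hQn ⊤ le_top)).IsSaturated p := by
  have hfn := Cfsg.Agent.Lib.Helper87.fullyNormalized_of_normal F hQ hQn
  obtain ⟨-, ⟨-, h2⟩, -⟩ := sat_fullyNormalized hS hF hfn
  apply kSystem_saturated hS hF hQ hQn ⊤ le_top
  rw [inf_top_eq, inf_top_eq]
  exact h2

theorem kSystem_inn_saturated [Finite S] {p : ℕ} [Fact p.Prime] (hS : IsPGroup p S)
    {F : FusionSystem S} (hF : F.IsSaturated p) {Q : Subgroup Ω} (hQ : Q ≤ S)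
    (hQn : S ≤ Subgroup.normalizer (Q : Set Ω)) :
    (kSystem F Q (autInducedBy S Q) hQ (hconj_of_normal hQn _ le_rfl)).IsSaturated p := by
  apply kSystem_saturated hS hF hQ hQn _ le_rfl
  have hfin : Finite (MulAut Q) := finite_mulAut_of_le hQ
  rw [inf_idem, inf_eq_right.2 (autInducedBy_le_autGroup F hQ)]
  apply sylIn_of_card_le le_rfl (isPGroup_autInducedBy hS Q)
  exact Nat.le_of_dvd Nat.card_pos (Nat.ordProj_dvd _ _)

theorem kSystem_le (F : FusionSystem S) (Q : Subgroup Ω) (K : Subgroup (MulAut Q)) (hQ : Q ≤ S)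
    (hconj : ∀ g ∈ S, ∃ a ∈ K, ∀ x : Q, g * (x : Ω) * g⁻¹ = (a x : Q)) :
    kSystem F Q K hQ hconj ≤ F := fun _ _ h => h.1

/-- a map defined on an overgroup of `Q` inducing an element of `K` on `Q` -/
theorem mem_kSystem_of_le (F : FusionSystem S) (Q : Subgroup Ω) (K : Subgroup (MulAut Q))
    (hQ : Q ≤ S) (hconj : ∀ g ∈ S, ∃ a ∈ K, ∀ x : Q, g * (x : Ω) * g⁻¹ = (a x : Q))
    {P : Subgroup Ω} {χ : P →* Ω} (hχ : χ ∈ F.Hom P) (hQP : Q ≤ P)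
    (h : ∃ a ∈ K, ∀ x : Q, χ ⟨x, hQP x.2⟩ = (a x : Q)) :
    χ ∈ (kSystem F Q K hQ hconj).Hom P := by
  obtain ⟨a, ha, ha'⟩ := h
  exact ⟨hχ, _, restrict_mem F hχ (sup_le le_rfl hQP), fun x => rfl, a, ha, fun x => ha' x⟩

theorem mem_kSystem_top_of_le [Finite S] (F : FusionSystem S) (Q : Subgroup Ω)
    (hQ : Q ≤ S) (hconj : ∀ g ∈ S, ∃ a ∈ (⊤ : Subgroup (MulAut Q)), ∀ x : Q,
      g * (x : Ω) * g⁻¹ = (a x : Q))
    {P : Subgroup Ω} {χ : P →* Ω} (hχ : χ ∈ F.Hom P) (hQP : Q ≤ P)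
    (h : ∀ x : P, (x : Ω) ∈ Q → χ x ∈ Q) :
    χ ∈ (kSystem F Q ⊤ hQ hconj).Hom P := by
  have hfin : Finite Q := finite_of_le hQ
  apply mem_kSystem_of_le F Q ⊤ hQ hconj hχ hQP
  refine ⟨autOfHom (χ.comp (Subgroup.inclusion hQP))
    ((F.injective_of_mem hχ).comp (Subgroup.inclusion_injective _)) (fun x => h _ x.2),
    Subgroup.mem_top _, fun x => rfl⟩

theorem kSystem_isNormal (F : FusionSystem S) (Q : Subgroup Ω) (K : Subgroup (MulAut Q))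
    (hQ : Q ≤ S) (hconj : ∀ g ∈ S, ∃ a ∈ K, ∀ x : Q, g * (x : Ω) * g⁻¹ = (a x : Q)) :
    (kSystem F Q K hQ hconj).IsNormal Q := by
  refine ⟨hQ, fun P φ hφ => ?_⟩
  obtain ⟨-, ψ, hψ, h1, a, ha, h2⟩ := hφ
  refine ⟨ψ, mem_kSystem_of_le F Q K hQ hconj hψ le_sup_right ⟨a, ha, fun x => h2 x⟩, h1, ?_⟩
  ext y
  constructor
  · rintro ⟨x, hx, rfl⟩
    have := h2 ⟨x, hx⟩
    have e : Subgroup.inclusion le_sup_right (⟨x, hx⟩ : Q) = x := rfl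
    rw [e] at this
    rw [this]
    exact (a _).2
  · intro hy
    refine ⟨Subgroup.inclusion le_sup_right (a⁻¹ ⟨y, hy⟩), (a⁻¹ ⟨y, hy⟩).2, ?_⟩
    rw [h2, MulAut.apply_inv_self]

/-- In `S C_F(Q)` the fusion of elements of `Q` is induced by `S`. -/
theorem kSystem_inn_fusion (F : FusionSystem S) (Q : Subgroup Ω) (hQ : Q ≤ S)
    (hconj : ∀ g ∈ S, ∃ a ∈ autInducedBy S Q, ∀ x : Q, g * (x : Ω) * g⁻¹ = (a x : Q))
    (P : Subgroup Ω) (θ : P →* Ω) (hθ : θ ∈ (kSystem F Q (autInducedBy S Q) hQ hconj).Hom P)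
    (q : P) (hq : θ q ∈ Q) : ∃ s ∈ S, θ q = s * (q : Ω) * s⁻¹ := by
  obtain ⟨-, ψ, hψ, h1, a, ha, h2⟩ := hθ
  obtain ⟨s, hs, hs'⟩ := (mem_autInducedBy_iff S Q a).1 ha
  refine ⟨s, hs, ?_⟩
  have h3 := h2 (a⁻¹ ⟨θ q, hq⟩)
  rw [MulAut.apply_inv_self] at h3
  have h4 : ψ (Subgroup.inclusion le_sup_right (a⁻¹ ⟨θ q, hq⟩)) =
      ψ (Subgroup.inclusion le_sup_left q) := by rw [h3, h1]
  have h5 := F.injective_of_mem hψ h4
  have h6 : ((a⁻¹ ⟨θ q, hq⟩ : Q) : Ω) = q := congrArg (fun z : ↥(P ⊔ Q) => (z : Ω)) h5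
  have h7 := hs' (a⁻¹ ⟨θ q, hq⟩)
  rw [MulAut.apply_inv_self, h6] at h7
  exact h7

/-- `foc(S C_F(Q)) ∩ Q ≤ S'`. -/
theorem kSystem_inn_focal [Finite S] {p : ℕ} [Fact p.Prime] (hS : IsPGroup p S)
    {F : FusionSystem S} (hF : F.IsSaturated p) {Q : Subgroup Ω} (hQ : Q ≤ S)
    (hQn : S ≤ Subgroup.normalizer (Q : Set Ω)) :
    (kSystem F Q (autInducedBy S Q) hQ (hconj_of_normal hQn _ le_rfl)).focalSubgroup ⊓ Q ≤
      ⁅(S : Subgroup Ω), (S : Subgroup Ω)⁆ :=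
  focal_inf_le_commutator p hS _ (kSystem_inn_saturated hS hF hQ hQn) Q
    (kSystem_inn_fusion F Q hQ _)

end Cfsg.Agent.Lib.Helper2
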