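import Mathlib
import Cfsg.Agent.Lib.Helper2.FusCtl3

set_option autoImplicit false

/-! The non-constrained case: `N_F(Q) = ⟨S C_F(Q), N_F(Q C_S(Q))⟩` (helper2). -/

namespace Cfsg.Agent.Lib.Helper2

open Cfsg Cfsg.FusionSystem Cfsg.Agent.Lib.Helper84

variable {Ω : Type*} [Group Ω] {S : Subgroup Ω}

theorem normalizer_sup_centralizerIn [Finite S] {Q : Subgroup Ω}
    (hQn : S ≤ Subgroup.normalizer (Q : Set Ω)) :
    S ≤ Subgroup.normalizer ((Q ⊔ centralizerIn S Q : Subgroup Ω) : Set Ω) := by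
  intro s hs
  apply mem_normalizer_sup (hQn hs)
  have : Finite (centralizerIn S Q) := finite_of_le inf_le_left
  apply mem_normalizer_of_finite
  rintro c ⟨hcS, hc'⟩
  have hc : c ∈ Subgroup.centralizer (Q : Set Ω) := hc'
  refine ⟨S.mul_mem (S.mul_mem hs hcS) (S.inv_mem hs), ?_⟩
  show s * c * s⁻¹ ∈ Subgroup.centralizer (Q : Set Ω)
  rw [Subgroup.mem_centralizer_iff] at hc ⊢
  intro q hq
  have h1 : s⁻¹ * q * s ∈ Q := by
    have := conj_mem_of_mem_normalizer (Subgroup.inv_mem _ (hQn hs)) hq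
    simpa using this
  have h2 := hc _ h1
  calc q * (s * c * s⁻¹) = s * ((s⁻¹ * q * s) * c) * s⁻¹ := by group
    _ = s * (c * (s⁻¹ * q * s)) * s⁻¹ := by rw [h2]
    _ = s * c * s⁻¹ * q := by group

theorem nt_of_centralizer [Finite S] {p : ℕ} [Fact p.Prime] (hS : IsPGroup p S)
    {F : FusionSystem S} (hF : F.IsSaturated p) {Q : Subgroup Ω} (hQ : Q ≤ S)
    (hQn : S ≤ Subgroup.normalizer (Q : Set Ω)) (D : Subgroup Ω)
    (hT : NT F D (Q ⊔ centralizerIn S Q))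
    (h1 : TrivMod (kSystem F Q (autInducedBy S Q) hQ (hconj_of_normal hQn _ le_rfl)) D) :
    NT F D Q := by
  intro P χ hχ hQP _ hχQ x
  have hfinQ : Finite Q := finite_of_le hQ
  have hPS : P ≤ S := (F.le_of_mem hχ).1
  have hfn := Cfsg.Agent.Lib.Helper87.fullyNormalized_of_normal F hQ hQn
  obtain ⟨-, -, hrec⟩ := sat_fullyNormalized hS hF hfn
  have hχQm : χ.comp (Subgroup.inclusion hQP) ∈ F.Hom Q := restrict_mem F hχ hQP
  have hpre := exists_preimage_of_maps_into hQP χ (F.injective_of_mem hχ) hχQ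
  have hrange : (χ.comp (Subgroup.inclusion hQP)).range = Q := by
    ext y
    constructor
    · rintro ⟨q, rfl⟩
      exact hχQ _ q.2
    · intro hy
      obtain ⟨z, hz, rfl⟩ := hpre y hy
      exact ⟨⟨z, hz⟩, rfl⟩
  obtain ⟨N, hPN, hCN, hNS, β, hβ, hβQ⟩ : ∃ N : Subgroup Ω, P ≤ N ∧ centralizerIn S Q ≤ N ∧ N ≤ S ∧
      ∃ β ∈ F.Hom N, ∀ (y : Ω) (hy : y ∈ Q) (hN : y ∈ N), β ⟨y, hN⟩ = χ ⟨y, hQP hy⟩ := by
    obtain ⟨β, hβ, hβQ⟩ := hrec.2 Q _ hχQm hrange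
    refine ⟨_, ?_, centralizerIn_le_extender _, (extender_le _ _ _).trans (normalizerIn_le S Q),
      β, hβ, fun y hy hN => hβQ y hy hN⟩
    intro g hg
    rw [mem_extender_iff]
    refine ⟨hPS hg, hQn (hPS hg), χ ⟨g, hg⟩, (F.le_of_mem hχ).2 _, fun y hy => ?_⟩
    show χ ⟨g * (y : Ω) * g⁻¹, _⟩ = χ ⟨g, hg⟩ * χ ⟨y, hQP y.2⟩ * (χ ⟨g, hg⟩)⁻¹
    rw [← map_inv, ← map_mul, ← map_mul]
    rfl
  have hQN : Q ≤ N := hQP.trans hPN
  have hβS : ∀ y : N, β y ∈ S := (F.le_of_mem hβ).2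
  -- `β` preserves `Q C_S(Q)`
  have hβT : ∀ y : N, (y : Ω) ∈ Q ⊔ centralizerIn S Q → β y ∈ Q ⊔ centralizerIn S Q := by
    have key : Q ⊔ centralizerIn S Q ≤ ((Q ⊔ centralizerIn S Q).comap β).map N.subtype := by
      apply sup_le
      · intro q hq
        refine ⟨⟨q, hQN hq⟩, ?_, rfl⟩
        show β ⟨q, hQN hq⟩ ∈ Q ⊔ centralizerIn S Q
        rw [hβQ q hq]
        exact (le_sup_left : Q ≤ Q ⊔ centralizerIn S Q) (hχQ _ hq)
      · intro c hc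
        refine ⟨⟨c, hCN hc⟩, ?_, rfl⟩
        show β ⟨c, hCN hc⟩ ∈ Q ⊔ centralizerIn S Q
        apply (le_sup_right : centralizerIn S Q ≤ Q ⊔ centralizerIn S Q)
        refine ⟨hβS _, ?_⟩
        show β ⟨c, hCN hc⟩ ∈ Subgroup.centralizer (Q : Set Ω)
        rw [Subgroup.mem_centralizer_iff]
        intro q hq
        obtain ⟨z, hz, rfl⟩ := hpre q hq
        have hc2 : c ∈ Subgroup.centralizer (Q : Set Ω) := hc.2
        have h3 := (Subgroup.mem_centralizer_iff.1 hc2) z hz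
        rw [← hβQ z hz (hQN hz), ← map_mul, ← map_mul]
        congr 1
        exact Subtype.ext h3
    intro y hy
    obtain ⟨z, hz, hzy⟩ := key hy
    have : z = y := Subtype.ext hzy
    rw [← this]
    exact hz
  have hβD := hT N β hβ (sup_le hQN hCN) (hNS.trans (normalizer_sup_centralizerIn hQn)) hβT
  -- the inverse of `β` on `β(P)`
  have hβP : β.comp (Subgroup.inclusion hPN) ∈ F.Hom P := restrict_mem F hβ hPN
  obtain ⟨ρ, hρ, hρ1, hρ2, -⟩ := Cfsg.Agent.Lib.Helper85.inv_mem' F hβP rfl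
  have hρP : ∀ y, ρ y ∈ P := fun y => hρ2.le ⟨y, rfl⟩
  have hγ := F.comp_mem hρ hχ hρP
  have hγx : ∀ y : P, (χ.comp (ρ.codRestrict P hρP)) ⟨(β.comp (Subgroup.inclusion hPN)) y, ⟨y, rfl⟩⟩
      = χ y := by
    intro y
    show χ ⟨ρ ⟨(β.comp (Subgroup.inclusion hPN)) y, ⟨y, rfl⟩⟩, _⟩ = χ y
    exact congrArg χ (Subtype.ext (hρ1 y ⟨y, rfl⟩))
  have hQr : Q ≤ (β.comp (Subgroup.inclusion hPN)).range := by
    intro q hq
    obtain ⟨z, hz, rfl⟩ := hpre q hq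
    exact ⟨z, hβQ z hz _⟩
  have hγE := mem_kSystem_of_le F Q (autInducedBy S Q) hQ (hconj_of_normal hQn _ le_rfl) hγ hQr
    ⟨1, Subgroup.one_mem _, by
      intro q
      obtain ⟨z, hz, hzq⟩ := hpre q q.2
      have e : (⟨(q : Ω), hQr q.2⟩ : ↥(β.comp (Subgroup.inclusion hPN)).range) =
          ⟨(β.comp (Subgroup.inclusion hPN)) z, ⟨z, rfl⟩⟩ := by
        apply Subtype.ext
        show (q : Ω) = β ⟨z, hPN z.2⟩
        rw [hβQ z hz, ← hzq]
      rw [e, hγx, MulAut.one_apply]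
      exact hzq⟩
  have k1 := h1 _ _ hγE ⟨(β.comp (Subgroup.inclusion hPN)) x, ⟨x, rfl⟩⟩
  rw [hγx] at k1
  have k2 := hβD ⟨x, hPN x.2⟩
  have k3 := D.mul_mem k2 k1
  have e : (β.comp (Subgroup.inclusion hPN)) x = β ⟨x, hPN x.2⟩ := rfl
  simp only [e] at k3
  simpa [mul_assoc] using k3

end Cfsg.Agent.Lib.Helper2
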