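import Mathlib
import Cfsg.Agent.Lib.Helper2.FusCtl1
import Cfsg.Agent.Lib.Helper88.FusNilp4

set_option autoImplicit false

/-! The quotient step for control of transfer (helper2). -/

universe u

namespace Cfsg.Agent.Lib.Helper2

open Cfsg Cfsg.FusionSystem Cfsg.Agent.Lib.Helper84 Cfsg.Agent.Lib.Helper85 Cfsg.Agent.Lib.Lead


theorem trivMod_of_quotient {p : ℕ} [Fact p.Prime] (W : ∀ (Q : Type u) [Group Q], Subgroup Q)
    (hW : IsCharPFunctor p W) {Ω : Type u} [Group Ω] {S : Subgroup Ω} [Finite S]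
    (hS : IsPGroup p S)
    (IH : ∀ (Ω' : Type u) [Group Ω'] (S' : Subgroup Ω') [Finite S'], Nat.card S' < Nat.card S →
      IsPGroup p S' → ∀ F' : FusionSystem S', F'.IsSaturated p → ∀ D' : Subgroup Ω',
      NT F' D' (inducedFunctor W S') → TrivMod F' D')
    (E : FusionSystem S) (hE : E.IsSaturated p) (Q : Subgroup Ω) (hQsc : E.StronglyClosed Q)
    (hQne : Q ≠ ⊥) (hQS : Q ≠ S) (D : Subgroup Ω)
    (hT : ∀ T : Subgroup Ω, Q < T → T ≤ S → S ≤ Subgroup.normalizer (T : Set Ω) → NT E D T)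
    (hfoc : E.focalSubgroup ⊓ Q ≤ D) : TrivMod E D := by
  have hn : (Q.subgroupOf S).Normal := ⟨by
    intro c hc s
    exact hQsc.2 _ le_rfl (conjHom _ (s : Ω)) (E.conj_mem hQsc.1 s.2) ⟨c, hc⟩⟩
  have hker : ∀ s : S, QuotientGroup.mk' (Q.subgroupOf S) s = 1 ↔ (s : Ω) ∈ Q :=
    fun s => QuotientGroup.eq_one_iff s
  have hsurj := QuotientGroup.mk'_surjective (Q.subgroupOf S)
  obtain ⟨Eb, hEb⟩ := exists_factorSystem E Q hQsc
    (QuotientGroup.mk' (Q.subgroupOf S)) hker (MonoidHom.range_eq_top.2 hsurj)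
  have hfin := Cfsg.Agent.Lib.Helper86.factor_finite hEb
  have hpG := Cfsg.Agent.Lib.Helper86.factor_isPGroup hS hEb
  have hsat := Cfsg.Agent.Lib.Helper86.factor_saturated hS E hE hQsc _ Eb hEb
  have hmor := (Cfsg.Agent.S5134.result p hS E hE Q hQsc _ Eb hEb).1
  have hcard : Nat.card (⊤ : Subgroup (S ⧸ Q.subgroupOf S)) < Nat.card S := by
    rw [Subgroup.card_top]
    apply card_quotient_lt_of_ne_bot
    intro h
    apply hQne
    rw [eq_bot_iff]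
    intro x hx
    have h1 : (⟨x, hQsc.1 hx⟩ : S) ∈ Q.subgroupOf S := hx
    rw [h, Subgroup.mem_bot] at h1
    exact Subgroup.mem_bot.2 (congrArg Subtype.val h1)
  obtain ⟨θ, hθ⟩ : ∃ θ : S →* S ⧸ Q.subgroupOf S, θ = QuotientGroup.mk' (Q.subgroupOf S) :=
    ⟨_, rfl⟩
  rw [← hθ] at hEb hmor hker hsurj
  have htop : (⊤ : Subgroup (S ⧸ Q.subgroupOf S)) ≠ ⊥ := by
    intro h
    apply hQS
    apply le_antisymm hQsc.1
    intro s hs
    have h1 : θ ⟨s, hs⟩ ∈ (⊤ : Subgroup (S ⧸ Q.subgroupOf S)) := trivial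
    rw [h, Subgroup.mem_bot] at h1
    exact (hker _).1 h1
  have hTne := inducedFunctor_ne_bot hW _ hpG htop
  have hTn := normalizer_le_normalizer_inducedFunctor hW _ hpG
  -- the preimage of `W(S/Q)`
  have hT1 : Q < preimageAlong θ (inducedFunctor W ⊤) := by
    refine lt_of_le_of_ne ?_ ?_
    · intro x hx
      rw [mem_preimageAlong]
      refine ⟨hQsc.1 hx, ?_⟩
      rw [(hker _).2 hx]
      exact Subgroup.one_mem _
    · intro h
      apply hTne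
      rw [eq_bot_iff]
      intro t ht
      obtain ⟨s, rfl⟩ := hsurj t
      have h1 : (s : Ω) ∈ preimageAlong θ (inducedFunctor W ⊤) := mem_preimageAlong.2 ⟨s.2, ht⟩
      rw [← h] at h1
      exact Subgroup.mem_bot.2 ((hker s).2 h1)
  have hT2 : S ≤ Subgroup.normalizer ((preimageAlong θ (inducedFunctor W ⊤) : Subgroup Ω) : Set Ω) := by
    intro s hs
    have : Finite ↥(preimageAlong θ (inducedFunctor W ⊤)) := finite_of_le (preimageAlong_le _ _)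
    apply Cfsg.Agent.Lib.Helper84.mem_normalizer_of_finite
    intro t ht
    obtain ⟨h3, h4⟩ := mem_preimageAlong.1 ht
    rw [mem_preimageAlong]
    refine ⟨S.mul_mem (S.mul_mem hs h3) (S.inv_mem hs), ?_⟩
    have e : (⟨s * t * s⁻¹, S.mul_mem (S.mul_mem hs h3) (S.inv_mem hs)⟩ : S) =
        ⟨s, hs⟩ * ⟨t, h3⟩ * ⟨s, hs⟩⁻¹ := rfl
    rw [e, map_mul, map_mul, map_inv]
    refine conj_mem_of_mem_normalizer (hTn ?_) h4
    rw [Subgroup.mem_normalizer_iff]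
    exact fun _ => ⟨fun _ => trivial, fun _ => trivial⟩
  have hNT := hT _ hT1 (preimageAlong_le _ _) hT2
  -- triviality of the factor system
  have hb : TrivMod Eb (imageAlong θ (D ⊓ E.focalSubgroup)) := by
    apply IH _ _ hcard hpG Eb hsat
    intro Pb χb hχb hWP _ hχW xb
    obtain ⟨-, φ, hφ, hP, hφS, hP', hind⟩ := (hEb.2.2.2 Pb χb).1 hχb
    obtain ⟨s, hs⟩ := hsurj (xb : S ⧸ Q.subgroupOf S)
    have hsP : (s : Ω) ∈ preimageAlong θ Pb := mem_preimageAlong.2 ⟨s.2, by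
      rw [Subtype.coe_eta, hs]; exact xb.2⟩
    have h1 := hNT _ φ hφ (by
        intro x hx
        obtain ⟨h1, h2⟩ := mem_preimageAlong.1 hx
        exact mem_preimageAlong.2 ⟨h1, hWP h2⟩) (hP.trans hT2) (by
        intro x hx
        obtain ⟨h1, h2⟩ := mem_preimageAlong.1 hx
        rw [mem_preimageAlong]
        refine ⟨hφS x, ?_⟩
        rw [← hind x]
        exact hχW _ h2) ⟨s, hsP⟩
    have h2 : ((⟨s, hsP⟩ : ↥(preimageAlong θ Pb)) : Ω)⁻¹ * φ ⟨s, hsP⟩ ∈ E.focalSubgroup :=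
      Subgroup.subset_closure ⟨_, φ, ⟨s, hsP⟩, hφ, rfl⟩
    refine ⟨s⁻¹ * ⟨φ ⟨s, hsP⟩, hφS _⟩, ⟨h1, h2⟩, ?_⟩
    rw [map_mul, map_inv, ← hind ⟨s, hsP⟩]
    have e : (⟨θ ⟨((⟨s, hsP⟩ : ↥(preimageAlong θ Pb)) : Ω), hP hsP⟩, hP' ⟨s, hsP⟩⟩ : Pb) = xb :=
      Subtype.ext hs
    rw [e, hs]
  intro P χ hχ x
  obtain ⟨χ', hχ', hP, hχS, hP', hind⟩ := hmor.2 P χ hχ
  obtain ⟨d, ⟨hd1, hd2⟩, hd⟩ := hb _ χ' hχ' ⟨θ ⟨x, hP x.2⟩, hP' x⟩
  rw [hind x] at hd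
  have hy : (x : Ω)⁻¹ * χ x ∈ E.focalSubgroup := Subgroup.subset_closure ⟨_, χ, x, hχ, rfl⟩
  have hq : (d : Ω)⁻¹ * ((x : Ω)⁻¹ * χ x) ∈ Q := by
    have h1 : θ (d⁻¹ * ((⟨x, hP x.2⟩ : S)⁻¹ * ⟨χ x, hχS x⟩)) = 1 := by
      rw [map_mul, map_mul, map_inv, map_inv, hd]
      simp
    exact (hker _).1 h1
  have hq2 : (d : Ω)⁻¹ * ((x : Ω)⁻¹ * χ x) ∈ D :=
    hfoc ⟨Subgroup.mul_mem _ (Subgroup.inv_mem _ hd2) hy, hq⟩
  have := D.mul_mem hd1 hq2
  simpa using this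

end Cfsg.Agent.Lib.Helper2
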