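import Mathlib
import Cfsg.Agent.Lib.Helper2.FusCtl1
import Cfsg.Agent.Lib.Helper88.FusNilp5
import Cfsg.Agent.Lib.Helper85.FusModelAut

set_option autoImplicit false

/-! The constrained case for control of transfer, via the model theorem (helper2). -/

universe u

namespace Cfsg.Agent.Lib.Helper2

open Cfsg Cfsg.FusionSystem Cfsg.Agent.Lib.Helper84 Cfsg.Agent.Lib.Helper85 Cfsg.Agent.Lib.Lead
open Cfsg.Agent.Lib.Helper88 (inducedFunctor_eq_map_top)
open scoped commutatorElement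

theorem focal_inf_le_of_constrained {p : ℕ} [Fact p.Prime]
    (W : ∀ (Q : Type u) [Group Q], Subgroup Q) (hW : IsCharPFunctor p W)
    (hT : ∀ (G : Type u) [Group G] [Finite G] (P : Sylow p G),
      Subgroup.centralizer ((pCore p G : Subgroup G) : Set G) ≤ pCore p G →
      pCore p G ⊓ commutator G = pCore p G ⊓
        (commutator ↥(Subgroup.normalizer ((inducedFunctor W (P : Subgroup G) : Subgroup G) : Set G))).map
          (Subgroup.normalizer ((inducedFunctor W (P : Subgroup G) : Subgroup G) : Set G)).subtype)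
    {Ω : Type u} [Group Ω] {S : Subgroup Ω} [Finite S] (hS : IsPGroup p S) (E : FusionSystem S)
    (hE : E.IsConstrained p) (Q : Subgroup Ω) (hQ : E.IsNormal Q) (D : Subgroup Ω)
    (hD : NT E D (inducedFunctor W S)) : E.focalSubgroup ⊓ Q ≤ D := by
  obtain ⟨G, _, j, hM⟩ := Cfsg.Agent.S5090.result p hS E hE
  have hcn := model_core_normal hM
  obtain ⟨hfin, hr, ⟨T, hTj⟩, hC⟩ := hM
  have hinj := hr.1
  have hWT : inducedFunctor W (T : Subgroup G) = (inducedFunctor W (⊤ : Subgroup S)).map j := by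
    rw [hTj]
    exact inducedFunctor_eq_map_top hW hS j hinj
  have hWS : inducedFunctor W S = (inducedFunctor W (⊤ : Subgroup S)).map S.subtype := by
    have h1 := inducedFunctor_eq_map_top hW hS S.subtype S.subtype_injective
    rwa [Subgroup.range_subtype] at h1
  have hmem : ∀ s : S, j s ∈ inducedFunctor W (T : Subgroup G) ↔ (s : Ω) ∈ inducedFunctor W S := by
    intro s
    rw [hWT, hWS]
    constructor
    · rintro ⟨s', hs', hss⟩
      rw [← hinj hss]
      exact ⟨s', hs', rfl⟩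
    · rintro ⟨s', hs', hss⟩
      have : s' = s := Subtype.ext hss
      rw [← this]
      exact ⟨s', hs', rfl⟩
  -- `j(Q) ≤ O_p(G)`
  have hQcore : ∀ q : S, (q : Ω) ∈ Q → j q ∈ pCore p G := by
    intro q hq
    have h1 : imageAlong j E.core ≤ pCore p G := by
      apply le_pCore hcn
      exact (hS.to_subgroup _).map j
    exact h1 ⟨q, (le_sSup hQ : Q ≤ E.core) hq, rfl⟩
  -- the focal subgroup goes into `G'`
  have hfoc : ∀ y ∈ E.focalSubgroup, ∃ hy : y ∈ S, j ⟨y, hy⟩ ∈ commutator G := by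
    intro y hy
    unfold FusionSystem.focalSubgroup at hy
    induction hy using Subgroup.closure_induction with
    | mem y hy =>
      obtain ⟨P, φ, x, hφ, rfl⟩ := hy
      have hxS : (x : Ω) ∈ S := (E.le_of_mem hφ).1 x.2
      have hφS : φ x ∈ S := (E.le_of_mem hφ).2 x
      refine ⟨S.mul_mem (S.inv_mem hxS) hφS, ?_⟩
      obtain ⟨g, hg⟩ := realized_exists_elt hr hφ
      have e : (⟨(x : Ω)⁻¹ * φ x, S.mul_mem (S.inv_mem hxS) hφS⟩ : S) =
          (⟨x, hxS⟩ : S)⁻¹ * ⟨φ x, hφS⟩ := rfl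
      rw [e, map_mul, map_inv, hg x, commutator_def]
      have := Subgroup.commutator_mem_commutator (Subgroup.mem_top (j ⟨x, hxS⟩)⁻¹)
        (Subgroup.mem_top g)
      rw [commutatorElement_def] at this
      simpa [mul_assoc] using this
    | one => exact ⟨S.one_mem, by
        have : (⟨1, S.one_mem⟩ : S) = 1 := rfl
        rw [this, map_one]; exact Subgroup.one_mem _⟩
    | mul a b _ _ ha hb =>
      obtain ⟨ha, ha'⟩ := ha
      obtain ⟨hb, hb'⟩ := hb
      refine ⟨S.mul_mem ha hb, ?_⟩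
      have e : (⟨a * b, S.mul_mem ha hb⟩ : S) = ⟨a, ha⟩ * ⟨b, hb⟩ := rfl
      rw [e, map_mul]
      exact Subgroup.mul_mem _ ha' hb'
    | inv a _ ha =>
      obtain ⟨ha, ha'⟩ := ha
      refine ⟨S.inv_mem ha, ?_⟩
      have e : (⟨a⁻¹, S.inv_mem ha⟩ : S) = (⟨a, ha⟩ : S)⁻¹ := rfl
      rw [e, map_inv]
      exact Subgroup.inv_mem _ ha'
  have hSn : S ≤ Subgroup.normalizer ((inducedFunctor W S : Subgroup Ω) : Set Ω) :=
    Subgroup.le_normalizer.trans (normalizer_le_normalizer_inducedFunctor hW _ hS)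
  have hTN : (T : Subgroup G) ≤
      Subgroup.normalizer ((inducedFunctor W (T : Subgroup G) : Subgroup G) : Set G) :=
    Subgroup.le_normalizer.trans (normalizer_le_normalizer_inducedFunctor hW _ T.2)
  -- commutators `[x, u]`, `u ∈ N_G(W(T))`
  have hgen : ∀ (x u : G), x ∈ (T : Subgroup G) →
      u ∈ Subgroup.normalizer ((inducedFunctor W (T : Subgroup G) : Subgroup G) : Set G) →
      ⁅x, u⁆ ∈ (T : Subgroup G) → ∃ s : S, (s : Ω) ∈ D ∧ j s = ⁅x, u⁆ := by
    intro x u hx hu hxu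
    rw [hTj] at hx hxu
    obtain ⟨a, rfl⟩ := hx
    have hP := preimageAlong_le ((MulAut.conj u).toMonoidHom.comp j) j.range
    obtain ⟨χ, hχ, hχS, hχj⟩ := realized_exists_hom hr hP u (by
      intro z
      obtain ⟨h1, h2⟩ := mem_preimageAlong.1 z.2
      exact h2)
    have hWP : inducedFunctor W S ≤ preimageAlong ((MulAut.conj u).toMonoidHom.comp j) j.range := by
      intro w hw
      have hwS : w ∈ S := inducedFunctor_le _ hw
      rw [mem_preimageAlong]
      refine ⟨hwS, ?_⟩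
      show u * j ⟨w, hwS⟩ * u⁻¹ ∈ j.range
      rw [← hTj]
      exact inducedFunctor_le _ (conj_mem_of_mem_normalizer hu ((hmem ⟨w, hwS⟩).2 hw))
    have haP : ((a⁻¹ : S) : Ω) ∈ preimageAlong ((MulAut.conj u).toMonoidHom.comp j) j.range := by
      rw [mem_preimageAlong]
      refine ⟨(a⁻¹).2, ?_⟩
      show u * j a⁻¹ * u⁻¹ ∈ j.range
      have h1 : u * j a⁻¹ * u⁻¹ = (j a)⁻¹ * ⁅j a, u⁆ := by
        rw [commutatorElement_def, map_inv]; group
      rw [h1]
      exact Subgroup.mul_mem _ (Subgroup.inv_mem _ ⟨a, rfl⟩) hxu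
    have key := hD _ χ hχ hWP (hP.trans hSn) (by
      intro w hw
      have h1 := conj_mem_of_mem_normalizer hu ((hmem ⟨w, hP w.2⟩).2 hw)
      rw [← hχj w] at h1
      exact (hmem _).1 h1) ⟨_, haP⟩
    refine ⟨(a⁻¹)⁻¹ * ⟨χ ⟨_, haP⟩, hχS _⟩, key, ?_⟩
    have e : (⟨((a⁻¹ : S) : Ω), hP haP⟩ : S) = a⁻¹ := rfl
    rw [map_mul, hχj, commutatorElement_def, e, map_inv, map_inv, inv_inv]
    simp [mul_assoc]
  rintro y ⟨hyf, hyQ⟩
  obtain ⟨hyS, hyc⟩ := hfoc y hyf
  have h1 : j ⟨y, hyS⟩ ∈ pCore p G ⊓ commutator G := ⟨hQcore _ hyQ, hyc⟩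
  rw [hT G T hC] at h1
  obtain ⟨n, hn, hny⟩ := h1.2
  have h2 : n ∈ commutator _ ⊓ ((T.subtype hTN : Sylow p _) : Subgroup _) := by
    refine ⟨hn, ?_⟩
    show (n : G) ∈ (T : Subgroup G)
    have h3 : (n : G) = j ⟨y, hyS⟩ := hny
    rw [h3, hTj]
    exact ⟨_, rfl⟩
  rw [Subgroup.commutator_inf_eq_focalSubgroup, Subgroup.focalSubgroup_def] at h2
  have h3 : ∀ n ∈ Subgroup.closure {g : ↥(Subgroup.normalizer
        ((inducedFunctor W (T : Subgroup G) : Subgroup G) : Set G)) |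
      g ∈ ((T.subtype hTN : Sylow p _) : Subgroup ↥(Subgroup.normalizer
        ((inducedFunctor W (T : Subgroup G) : Subgroup G) : Set G))) ∧
      ∃ x ∈ ((T.subtype hTN : Sylow p _) : Subgroup ↥(Subgroup.normalizer
        ((inducedFunctor W (T : Subgroup G) : Subgroup G) : Set G))), ∃ u, g = ⁅x, u⁆},
      ∃ s : S, (s : Ω) ∈ D ∧ j s = (n : G) := by
    intro n hn
    induction hn using Subgroup.closure_induction with
    | mem g hg =>
      obtain ⟨hg1, x, hx, u, rfl⟩ := hg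
      exact hgen x u hx u.2 hg1
    | one => exact ⟨1, D.one_mem, map_one _⟩
    | mul a b _ _ ha hb =>
      obtain ⟨s, hs, hs'⟩ := ha
      obtain ⟨t, ht, ht'⟩ := hb
      exact ⟨s * t, D.mul_mem hs ht, by rw [map_mul, hs', ht']; rfl⟩
    | inv a _ ha =>
      obtain ⟨s, hs, hs'⟩ := ha
      exact ⟨s⁻¹, D.inv_mem hs, by rw [map_inv, hs']; rfl⟩
  obtain ⟨s, hs, hs'⟩ := h3 n h2
  have h4 : s = ⟨y, hyS⟩ := hinj (hs'.trans hny)
  rw [h4] at hs
  exact hs

end Cfsg.Agent.Lib.Helper2
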