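import Mathlib
import Cfsg.Agent.Lib.Helper2.FusCtl4
import Cfsg.Agent.Lib.Helper2.FusCtl5
import Cfsg.Agent.Lib.Helper2.FusCtl6
import Cfsg.Agent.Lib.Helper87.CenIdxEss

set_option autoImplicit false

/-! A positive characteristic `p`-functor satisfying the local focal condition controls transfer in
every saturated fusion system (helper2). -/

universe u

namespace Cfsg.Agent.Lib.Helper2

open Cfsg Cfsg.FusionSystem Cfsg.Agent.Lib.Helper84 Cfsg.Agent.Lib.Lead

theorem NT.mono {Ω : Type*} [Group Ω] {S S' : Subgroup Ω} {E : FusionSystem S'} {F : FusionSystem S}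
    (h : E.IsSubsystemOf F) {D T : Subgroup Ω} (hT : NT F D T) : NT E D T :=
  fun P φ hφ => hT P φ (h P hφ)

/-- a map on an overgroup of `Q` in `N_S(Q)` preserving `Q` is a map of `N_F(Q)` -/
theorem mem_normalizerHom_of_le {Ω : Type*} [Group Ω] {S : Subgroup Ω} [Finite S]
    {F : FusionSystem S} {Q P : Subgroup Ω} (hQ : Q ≤ S) {χ : P →* Ω} (hχ : χ ∈ F.Hom P)
    (hQP : Q ≤ P) (hPN : P ≤ Subgroup.normalizer (Q : Set Ω))
    (hχQ : ∀ x : P, (x : Ω) ∈ Q → χ x ∈ Q) : χ ∈ F.normalizerHom Q P := by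
  have hfin : Finite Q := finite_of_le hQ
  have hPS := (F.le_of_mem hχ).1
  refine ⟨hχ, fun y hy => ⟨hPS hy, hPN hy⟩, fun y => ⟨(F.le_of_mem hχ).2 y,
    map_mem_normalizer hQP hPN χ (F.injective_of_mem hχ) hχQ y⟩,
    χ.comp (Subgroup.inclusion (sup_le le_rfl hQP)), restrict_mem F hχ _, fun x => rfl, ?_⟩
  ext y
  constructor
  · rintro ⟨x, hx, rfl⟩
    exact hχQ _ hx
  · intro hy
    obtain ⟨z, hz, rfl⟩ := exists_preimage_of_maps_into hQP χ (F.injective_of_mem hχ) hχQ y hy
    exact ⟨⟨z, (le_sup_left : P ≤ P ⊔ Q) z.2⟩, hz, rfl⟩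

theorem nt_bot_or {Ω : Type*} [Group Ω] {S : Subgroup Ω} {F : FusionSystem S} {D P : Subgroup Ω}
    (h : P ≠ ⊥ → NT F D P) (φ : P →* Ω) (hφ : φ ∈ F.Hom P) (hφP : ∀ x : P, φ x ∈ P) (x : P) :
    (x : Ω)⁻¹ * φ x ∈ D := by
  by_cases hP : P = ⊥
  · have h1 : (x : Ω) = 1 := Subgroup.mem_bot.1 (hP.le x.2)
    have h2 : φ x = 1 := Subgroup.mem_bot.1 (hP.le (hφP x))
    rw [h1, h2]
    simp
  · exact h hP P φ hφ le_rfl Subgroup.le_normalizer (fun y _ => hφP y) x

theorem trivMod_of_functor_aux {p : ℕ} [Fact p.Prime]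
    (W : ∀ (Q : Type u) [Group Q], Subgroup Q) (hW : IsCharPFunctor p W)
    (hT : ∀ (G : Type u) [Group G] [Finite G] (P : Sylow p G),
      Subgroup.centralizer ((pCore p G : Subgroup G) : Set G) ≤ pCore p G →
      pCore p G ⊓ commutator G = pCore p G ⊓
        (commutator ↥(Subgroup.normalizer ((inducedFunctor W (P : Subgroup G) : Subgroup G) : Set G))).map
          (Subgroup.normalizer ((inducedFunctor W (P : Subgroup G) : Subgroup G) : Set G)).subtype)
    (n : ℕ) : ∀ (Ω : Type u) [Group Ω] (S : Subgroup Ω) [Finite S], Nat.card S = n → IsPGroup p S →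
      ∀ F : FusionSystem S, F.IsSaturated p → ∀ D : Subgroup Ω,
      NT F D (inducedFunctor W S) → TrivMod F D := by
  induction n using Nat.strong_induction_on with
  | _ n ih =>
  intro Ω _ S _ hn hS F hF D hD
  have hSn : S ≤ Subgroup.normalizer ((inducedFunctor W S : Subgroup Ω) : Set Ω) :=
    Subgroup.le_normalizer.trans (normalizer_le_normalizer_inducedFunctor hW _ hS)
  have htop : ∀ φ ∈ F.Hom S, ∀ x : S, (x : Ω)⁻¹ * φ x ∈ D := by
    intro φ hφ
    apply hD S φ hφ (inducedFunctor_le _) hSn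
    rintro x ⟨w, hw, hwx⟩
    have hwx' : w = x := Subtype.ext hwx
    have h1 := hW.2 S S hS (equivOfRange φ (F.injective_of_mem hφ) (range_eq_of_card F hφ))
    have h2 : equivOfRange φ (F.injective_of_mem hφ) (range_eq_of_card F hφ) w ∈ W ↥S := by
      rw [← h1]
      exact ⟨w, hw, rfl⟩
    rw [← hwx']
    exact ⟨_, h2, rfl⟩
  have IH : ∀ (Ω' : Type u) [Group Ω'] (S' : Subgroup Ω') [Finite S'], Nat.card S' < Nat.card S →
      IsPGroup p S' → ∀ F' : FusionSystem S', F'.IsSaturated p → ∀ D' : Subgroup Ω',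
      NT F' D' (inducedFunctor W S') → TrivMod F' D' := by
    intro Ω' _ S' _ hc hS' F' hF' D' h'
    exact ih (Nat.card S') (hn ▸ hc) Ω' S' rfl hS' F' hF' D' h'
  by_contra hnot
  -- a bad fully normalized subgroup
  have hex : ∃ Q : Subgroup Ω, Q ≠ ⊥ ∧ F.IsFullyNormalized Q ∧ ¬ NT F D Q := by
    by_contra hno
    push Not at hno
    apply hnot
    intro P φ hφ x
    exact hom_triv_of_large hS F hF D 0 htop
      (fun P hP _ φ hφ hφP x => nt_bot_or (fun hne => hno P hne hP.2.1) φ hφ hφP x)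
      P φ hφ (Nat.zero_le _) x
  obtain ⟨U₀, hU₀ne, hU₀fn, hU₀ni⟩ := hex
  have hfinQ : {Q : Subgroup Ω | Q ≠ ⊥ ∧ F.IsFullyNormalized Q ∧ ¬ NT F D Q}.Finite :=
    finite_subgroups_le.subset (fun Q hQ => hQ.2.1.1)
  obtain ⟨Q, ⟨hQne, hQfn, hQni⟩, hQmax⟩ := Set.exists_max_image _
    (fun Q : Subgroup Ω => Nat.card (normalizerIn S Q) * (Nat.card S + 1) + Nat.card Q) hfinQ
    ⟨U₀, hU₀ne, hU₀fn, hU₀ni⟩
  have hQS := hQfn.1
  have hQcard : Nat.card Q ≤ Nat.card S := Subgroup.card_le_of_le hQS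
  apply hQni
  -- (A)
  have hA : ∀ U : Subgroup Ω, U ≠ ⊥ → F.IsFullyNormalized U →
      Nat.card (normalizerIn S Q) < Nat.card (normalizerIn S U) → NT F D U := by
    intro U hUne hUfn hlt
    by_contra hUni
    have h4 := hQmax U ⟨hUne, hUfn, hUni⟩
    have h5 : (Nat.card (normalizerIn S Q) + 1) * (Nat.card S + 1) ≤
        Nat.card (normalizerIn S U) * (Nat.card S + 1) := Nat.mul_le_mul_right _ hlt
    rw [add_mul, one_mul] at h5
    omega
  -- (B)
  have hB : ∀ (P : Subgroup Ω) (φ : P →* Ω), φ ∈ F.Hom P →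
      Nat.card (normalizerIn S Q) ≤ Nat.card P → ∀ x : P, (x : Ω)⁻¹ * φ x ∈ D := by
    apply hom_triv_of_large hS F hF D _ htop
    intro P hP hm φ hφ hφP x
    refine nt_bot_or (fun hne => hA P hne hP.2.1 ?_) φ hφ hφP x
    have hlt := lt_normalizerIn hS (Cfsg.Agent.Lib.Helper87.ess_lt hS hF hP)
    have : Finite (normalizerIn S P) := finite_of_le (normalizerIn_le S P)
    exact lt_of_le_of_lt hm (Cfsg.Agent.Lib.Helper84.card_lt_card_of_lt hlt)
  -- (C)
  have hC : ∀ U : Subgroup Ω, U ≠ ⊥ → U ≤ S →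
      Nat.card (normalizerIn S Q) < Nat.card (normalizerIn S U) → NT F D U := by
    intro U hUne hUS hlt
    obtain ⟨U', hUU', hU'fn⟩ := exists_fullyNormalized F hUS
    obtain ⟨-, hRa, hRr⟩ := sat_fullyNormalized hS hF hU'fn
    obtain ⟨ψ, hψ, hψN, hψU⟩ := exists_normalizer_hom hS F hRa hRr hUU'
    apply NT.transport hUS hψ hψN hψU (hB _ ψ hψ hlt.le)
    apply hA U' (Cfsg.Agent.Lib.Helper88.ne_bot_of_isConj hUU' hUne) hU'fn
    exact lt_of_lt_of_le hlt (hU'fn.2 U (isConj_symm hUU'))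
  by_cases hR : normalizerIn S Q = S
  · -- `Q` is normal in `S`
    have hQn : S ≤ Subgroup.normalizer (Q : Set Ω) := by
      intro s hs
      have : s ∈ normalizerIn S Q := hR.symm ▸ hs
      exact this.2
    have hDn : ∀ T : Subgroup Ω, Q < T → T ≤ S → S ≤ Subgroup.normalizer (T : Set Ω) →
        NT F D T := by
      intro T hQT hTS hTn
      by_contra hTni
      have hNT : normalizerIn S T = S := inf_eq_left.2 hTn
      have h1 := hQmax T ⟨ne_bot_of_gt hQT,
        Cfsg.Agent.Lib.Helper87.fullyNormalized_of_normal F hTS hTn, hTni⟩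
      rw [hNT, hR] at h1
      have : Finite T := finite_of_le hTS
      have h2 : Nat.card Q < Nat.card T := Cfsg.Agent.Lib.Helper84.card_lt_card_of_lt hQT
      omega
    by_cases hQeq : Q = S
    · intro P χ hχ hQP _ _ x
      have hP : P = S := le_antisymm (F.le_of_mem hχ).1 (hQeq ▸ hQP)
      subst hP
      exact htop χ hχ x
    by_cases hcen : centralizerIn S Q ≤ Q
    · -- constrained case
      have hEsat := kSystem_top_saturated hS hF hQS hQn
      have hEn := kSystem_isNormal F Q ⊤ hQS (hconj_of_normal hQn ⊤ le_top)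
      have hEle : (kSystem F Q ⊤ hQS (hconj_of_normal hQn ⊤ le_top)).IsSubsystemOf F :=
        kSystem_le F Q ⊤ hQS _
      have hEcon : (kSystem F Q ⊤ hQS (hconj_of_normal hQn ⊤ le_top)).IsConstrained p := by
        refine ⟨hEsat, Q, hEn, hQS, fun Q' hQ' => ?_⟩
        rw [isConj_eq_of_normal hEn hQ']
        exact hcen
      have hfoc := focal_inf_le_of_constrained W hW hT hS _ hEcon Q hEn D (hD.mono hEle)
      have htriv := trivMod_of_quotient W hW hS IH _ hEsat Q
        (Cfsg.Agent.Lib.Helper86.stronglyClosed_of_isNormal hEn) hQne hQeq D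
        (fun T h1 h2 h3 => (hDn T h1 h2 h3).mono hEle) hfoc
      intro P χ hχ hQP _ hχQ x
      exact htriv P χ (mem_kSystem_top_of_le F Q hQS _ hχ hQP hχQ) x
    · -- `Q C_S(Q) > Q`
      have hEsat := kSystem_inn_saturated hS hF hQS hQn
      have hEn := kSystem_isNormal F Q (autInducedBy S Q) hQS (hconj_of_normal hQn _ le_rfl)
      have hEle : (kSystem F Q (autInducedBy S Q) hQS
          (hconj_of_normal hQn _ le_rfl)).IsSubsystemOf F := kSystem_le F Q _ hQS _
      have hfoc := (kSystem_inn_focal hS hF hQS hQn).trans (commutator_le_of_top htop)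
      have htriv := trivMod_of_quotient W hW hS IH _ hEsat Q
        (Cfsg.Agent.Lib.Helper86.stronglyClosed_of_isNormal hEn) hQne hQeq D
        (fun T h1 h2 h3 => (hDn T h1 h2 h3).mono hEle) hfoc
      apply nt_of_centralizer hS hF hQS hQn D _ htriv
      apply hDn _ _ (sup_le hQS inf_le_left) (normalizer_sup_centralizerIn hQn)
      refine lt_of_le_of_ne le_sup_left ?_
      intro h
      exact hcen ((le_sup_right : centralizerIn S Q ≤ Q ⊔ centralizerIn S Q).trans h.ge)
  · -- `N_S(Q) < S`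
    have hlt : normalizerIn S Q < S := lt_of_le_of_ne (normalizerIn_le S Q) hR
    obtain ⟨E, hE⟩ := Cfsg.Agent.S5096.result F Q hQS
    have hEsat := normalizerSystem_saturated hS hF hQfn E hE
    have hEsub := Cfsg.Agent.Lib.Helper88.normalizerSystem_subsystem hE
    have hfinN : Finite (normalizerIn S Q) := finite_of_le (normalizerIn_le S Q)
    have hpN : IsPGroup p (normalizerIn S Q) := hS.to_le (normalizerIn_le S Q)
    have hNne : normalizerIn S Q ≠ ⊥ := by
      intro h
      apply hQne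
      rw [eq_bot_iff, ← h]
      exact le_normalizerIn hQS
    have hUne : inducedFunctor W (normalizerIn S Q) ≠ ⊥ := inducedFunctor_ne_bot hW _ hpN hNne
    have h1 : normalizerIn S (normalizerIn S Q) ≤
        normalizerIn S (inducedFunctor W (normalizerIn S Q)) :=
      fun x hx => ⟨hx.1, normalizer_le_normalizer_inducedFunctor hW _ hpN hx.2⟩
    have h2 : normalizerIn S Q < normalizerIn S (normalizerIn S Q) := lt_normalizerIn hS hlt
    have hfin2 : Finite (normalizerIn S (normalizerIn S Q)) := finite_of_le (normalizerIn_le S _)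
    have hfin3 : Finite (normalizerIn S (inducedFunctor W (normalizerIn S Q))) :=
      finite_of_le (normalizerIn_le S _)
    have h3 : Nat.card (normalizerIn S Q) <
        Nat.card (normalizerIn S (inducedFunctor W (normalizerIn S Q))) :=
      lt_of_lt_of_le (Cfsg.Agent.Lib.Helper84.card_lt_card_of_lt h2) (Subgroup.card_le_of_le h1)
    have hNTU := hC _ hUne ((inducedFunctor_le _).trans (normalizerIn_le S Q)) h3
    have htriv := IH Ω (normalizerIn S Q) (Cfsg.Agent.Lib.Helper84.card_lt_card_of_lt hlt) hpN E hEsat D (hNTU.mono hEsub)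
    intro P χ hχ hQP hPN hχQ x
    apply htriv P χ _ x
    rw [hE P]
    exact mem_normalizerHom_of_le hQS hχ hQP hPN hχQ

/-- **Control of transfer**: the focal subgroup of `F` lies in every `D` modulo which the maps of
`N_F(W(S))` are trivial. -/
theorem trivMod_of_functor {p : ℕ} [Fact p.Prime]
    (W : ∀ (Q : Type u) [Group Q], Subgroup Q) (hW : IsCharPFunctor p W)
    (hT : ∀ (G : Type u) [Group G] [Finite G] (P : Sylow p G),
      Subgroup.centralizer ((pCore p G : Subgroup G) : Set G) ≤ pCore p G →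
      pCore p G ⊓ commutator G = pCore p G ⊓
        (commutator ↥(Subgroup.normalizer ((inducedFunctor W (P : Subgroup G) : Subgroup G) : Set G))).map
          (Subgroup.normalizer ((inducedFunctor W (P : Subgroup G) : Subgroup G) : Set G)).subtype)
    {Ω : Type u} [Group Ω] {S : Subgroup Ω} [Finite S] (hS : IsPGroup p S)
    (F : FusionSystem S) (hF : F.IsSaturated p) (D : Subgroup Ω)
    (hD : NT F D (inducedFunctor W S)) : TrivMod F D :=
  trivMod_of_functor_aux W hW hT _ Ω S rfl hS F hF D hD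

end Cfsg.Agent.Lib.Helper2
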