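import Mathlib
import Cfsg.Agent.Lib.Helper2.FusCtl7
import Cfsg.Agent.Lib.Helper84.FusionHyperfocal

set_option autoImplicit false

/-! If a functor controls transfer and `Aut_F(S)` is a `p`-group then `foc(F) < S` (helper2). -/

universe u

namespace Cfsg.Agent.Lib.Helper2

open Cfsg Cfsg.FusionSystem Cfsg.Agent.Lib.Helper84 Cfsg.Agent.Lib.Helper85 Cfsg.Agent.Lib.Lead
open Cfsg.Agent.Lib.Helper88 (NI NI.factor)

theorem focalSubgroup_le {Ω : Type*} [Group Ω] {S : Subgroup Ω} (F : FusionSystem S) :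
    F.focalSubgroup ≤ S := by
  unfold FusionSystem.focalSubgroup
  rw [Subgroup.closure_le]
  rintro _ ⟨P, φ, x, hφ, rfl⟩
  exact S.mul_mem (S.inv_mem ((F.le_of_mem hφ).1 x.2)) ((F.le_of_mem hφ).2 x)

/-- if `Aut_F(S)` is a `p`-group, the maps on `S` are inner -/
theorem hom_top_inner {Ω : Type*} [Group Ω] {S : Subgroup Ω} [Finite S] {p : ℕ} [Fact p.Prime]
    (hS : IsPGroup p S) {F : FusionSystem S} (hF : F.IsSaturated p)
    (haut : IsPGroup p ↥(F.autGroup S)) {χ : S →* Ω} (hχ : χ ∈ F.Hom S) :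
    ∃ g ∈ S, ∀ x : S, χ x = g * (x : Ω) * g⁻¹ := by
  obtain ⟨-, ⟨-, R, hR⟩, -⟩ := sat_fullyNormalized hS hF (fullyNormalized_self F)
  have hRtop : (⊤ : Subgroup (F.autGroup S)) = R :=
    R.is_maximal' (haut.to_subgroup ⊤) le_top
  have he : Mor F (equivOfRange χ (F.injective_of_mem hχ) (range_eq_of_card F hχ)).toMonoidHom :=
    mor_equivOfRange F hχ _
  have h1 := (mem_autGroup_iff F le_rfl _).2 he
  have h2 : (⟨_, h1⟩ : F.autGroup S) ∈ (R : Subgroup (F.autGroup S)) := by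
    rw [← hRtop]; trivial
  rw [hR, Subgroup.mem_subgroupOf] at h2
  obtain ⟨g, hg, hg'⟩ := (mem_autInducedBy_iff S S _).1 h2
  exact ⟨g, hg, fun x => hg' x⟩

theorem focal_lt_of_functor_aux {p : ℕ} [Fact p.Prime]
    (W : ∀ (Q : Type u) [Group Q], Subgroup Q) (hW : IsCharPFunctor p W)
    (hT : ∀ (G : Type u) [Group G] [Finite G] (P : Sylow p G),
      Subgroup.centralizer ((pCore p G : Subgroup G) : Set G) ≤ pCore p G →
      pCore p G ⊓ commutator G = pCore p G ⊓
        (commutator ↥(Subgroup.normalizer ((inducedFunctor W (P : Subgroup G) : Subgroup G) : Set G))).map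
          (Subgroup.normalizer ((inducedFunctor W (P : Subgroup G) : Subgroup G) : Set G)).subtype)
    (n : ℕ) : ∀ (Ω : Type u) [Group Ω] (S : Subgroup Ω) [Finite S], Nat.card S = n → IsPGroup p S →
      S ≠ ⊥ → ∀ F : FusionSystem S, F.IsSaturated p → IsPGroup p ↥(F.autGroup S) →
      F.focalSubgroup < S := by
  induction n using Nat.strong_induction_on with
  | _ n ih =>
  intro Ω _ S _ hn hS hSne F hF haut
  -- it is enough to find a suitable `D`
  suffices h : ∃ D : Subgroup Ω, NT F D (inducedFunctor W S) ∧ ¬ S ≤ D by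
    obtain ⟨D, hD, hSD⟩ := h
    have h1 := (trivMod_iff F D).1 (trivMod_of_functor W hW hT hS F hF D hD)
    refine lt_of_le_of_ne (focalSubgroup_le F) ?_
    intro h2
    exact hSD (h2 ▸ h1)
  have hVS : inducedFunctor W S ≤ S := inducedFunctor_le S
  have hVne : inducedFunctor W S ≠ ⊥ := inducedFunctor_ne_bot hW _ hS hSne
  have hSn : S ≤ Subgroup.normalizer ((inducedFunctor W S : Subgroup Ω) : Set Ω) :=
    Subgroup.le_normalizer.trans (normalizer_le_normalizer_inducedFunctor hW _ hS)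
  obtain ⟨V, hV⟩ : ∃ V : Subgroup Ω, V = inducedFunctor W S := ⟨_, rfl⟩
  rw [← hV] at hVS hVne hSn ⊢
  by_cases hVeq : V = S
  · refine ⟨⁅S, S⁆, ?_, ?_⟩
    · intro P χ hχ hVP _ _ x
      have hP : P = S := le_antisymm (F.le_of_mem hχ).1 (hVeq ▸ hVP)
      subst hP
      obtain ⟨g, hg, hg'⟩ := hom_top_inner hS hF haut hχ
      rw [hg']
      have := Subgroup.commutator_mem_commutator (P.inv_mem x.2) hg
      rw [commutatorElement_def] at this
      simpa [mul_assoc] using this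
    · intro h
      apply hSne
      exact (eq_of_sup_commutator hS bot_le (by rwa [bot_sup_eq])).symm
  · have hEsat := kSystem_top_saturated hS hF hVS hSn
    have hEn := kSystem_isNormal F V ⊤ hVS (hconj_of_normal hSn ⊤ le_top)
    have hQsc := Cfsg.Agent.Lib.Helper86.stronglyClosed_of_isNormal hEn
    obtain ⟨E, hEdef⟩ : ∃ E : FusionSystem S, E = kSystem F V ⊤ hVS (hconj_of_normal hSn ⊤ le_top) :=
      ⟨_, rfl⟩
    rw [← hEdef] at hEsat hEn hQsc
    have hEle : E.IsSubsystemOf F := by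
      rw [hEdef]; exact kSystem_le F V ⊤ hVS _
    have hn' : (V.subgroupOf S).Normal := ⟨by
      intro c hc s
      exact hQsc.2 _ le_rfl (conjHom _ (s : Ω)) (E.conj_mem hQsc.1 s.2) ⟨c, hc⟩⟩
    have hker : ∀ s : S, QuotientGroup.mk' (V.subgroupOf S) s = 1 ↔ (s : Ω) ∈ V :=
      fun s => QuotientGroup.eq_one_iff s
    have hsurj := QuotientGroup.mk'_surjective (V.subgroupOf S)
    obtain ⟨Eb, hEb⟩ := exists_factorSystem E V hQsc
      (QuotientGroup.mk' (V.subgroupOf S)) hker (MonoidHom.range_eq_top.2 hsurj)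
    have hfin := Cfsg.Agent.Lib.Helper86.factor_finite hEb
    have hpG := Cfsg.Agent.Lib.Helper86.factor_isPGroup hS hEb
    have hsat := Cfsg.Agent.Lib.Helper86.factor_saturated hS E hEsat hQsc _ Eb hEb
    have hmor := (Cfsg.Agent.S5134.result p hS E hEsat V hQsc _ Eb hEb).1
    have hcard : Nat.card (⊤ : Subgroup (S ⧸ V.subgroupOf S)) < Nat.card S := by
      rw [Subgroup.card_top]
      apply card_quotient_lt_of_ne_bot
      intro h
      apply hVne
      rw [eq_bot_iff]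
      intro x hx
      have h1 : (⟨x, hVS hx⟩ : S) ∈ V.subgroupOf S := hx
      rw [h, Subgroup.mem_bot] at h1
      exact Subgroup.mem_bot.2 (congrArg Subtype.val h1)
    obtain ⟨θ, hθ⟩ : ∃ θ : S →* S ⧸ V.subgroupOf S, θ = QuotientGroup.mk' (V.subgroupOf S) :=
      ⟨_, rfl⟩
    rw [← hθ] at hEb hmor hker hsurj
    have htop : (⊤ : Subgroup (S ⧸ V.subgroupOf S)) ≠ ⊥ := by
      intro h
      apply hVeq
      apply le_antisymm hVS
      intro s hs
      have h1 : θ ⟨s, hs⟩ ∈ (⊤ : Subgroup (S ⧸ V.subgroupOf S)) := trivial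
      rw [h, Subgroup.mem_bot] at h1
      exact (hker _).1 h1
    have hNI : NI p E (preimageAlong θ ⊤) := by
      intro P hTP hP α hα _
      have hPS : P ≤ S := hP.trans (normalizerIn_le S _)
      have hPeq : P = S := by
        apply le_antisymm hPS
        intro s hs
        exact hTP (mem_preimageAlong.2 ⟨hs, trivial⟩)
      subst hPeq
      have hα' := Cfsg.Agent.Lib.Helper88.autGroup_le_of_subsystem hEle le_rfl hα
      obtain ⟨k, hk⟩ := haut ⟨α, hα'⟩
      exact ⟨k, congrArg Subtype.val hk⟩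
    have hNIb : NI p Eb ⊤ := NI.factor hEb hNI
    have hautb : IsPGroup p ↥(Eb.autGroup ⊤) := by
      rintro ⟨α, hα⟩
      obtain ⟨k, hk⟩ := hNIb ⊤ le_rfl (Cfsg.Agent.Lib.Helper84.le_normalizerIn le_rfl) α hα (fun _ _ => trivial)
      exact ⟨k, Subtype.ext hk⟩
    have hlt := ih _ (hn ▸ hcard) _ ⊤ rfl hpG htop Eb hsat hautb
    refine ⟨preimageAlong θ Eb.focalSubgroup, ?_, ?_⟩
    · intro P χ hχ hVP _ hχV x
      have hχE : χ ∈ E.Hom P := by
        rw [hEdef]
        exact mem_kSystem_top_of_le F V hVS _ hχ hVP hχV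
      obtain ⟨χ', hχ', hP, hχS, hP', hind⟩ := hmor.2 P χ hχE
      rw [mem_preimageAlong]
      refine ⟨S.mul_mem (S.inv_mem (hP x.2)) (hχS x), ?_⟩
      have e : (⟨(x : Ω)⁻¹ * χ x, S.mul_mem (S.inv_mem (hP x.2)) (hχS x)⟩ : S) =
          (⟨x, hP x.2⟩ : S)⁻¹ * ⟨χ x, hχS x⟩ := rfl
      rw [e, map_mul, map_inv, ← hind x]
      exact Subgroup.subset_closure ⟨_, χ', ⟨θ ⟨x, hP x.2⟩, hP' x⟩, hχ', rfl⟩
    · intro h
      apply hlt.ne
      apply le_antisymm hlt.le
      intro t _
      obtain ⟨s, rfl⟩ := hsurj t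
      obtain ⟨_, h2⟩ := mem_preimageAlong.1 (h s.2)
      exact h2

theorem focal_lt_of_functor {p : ℕ} [Fact p.Prime]
    (W : ∀ (Q : Type u) [Group Q], Subgroup Q) (hW : IsCharPFunctor p W)
    (hT : ∀ (G : Type u) [Group G] [Finite G] (P : Sylow p G),
      Subgroup.centralizer ((pCore p G : Subgroup G) : Set G) ≤ pCore p G →
      pCore p G ⊓ commutator G = pCore p G ⊓
        (commutator ↥(Subgroup.normalizer ((inducedFunctor W (P : Subgroup G) : Subgroup G) : Set G))).map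
          (Subgroup.normalizer ((inducedFunctor W (P : Subgroup G) : Subgroup G) : Set G)).subtype)
    {Ω : Type u} [Group Ω] {S : Subgroup Ω} [Finite S] (hS : IsPGroup p S) (hSne : S ≠ ⊥)
    (F : FusionSystem S) (hF : F.IsSaturated p) (haut : IsPGroup p ↥(F.autGroup S)) :
    F.focalSubgroup < S :=
  focal_lt_of_functor_aux W hW hT _ Ω S rfl hS hSne F hF haut

end Cfsg.Agent.Lib.Helper2
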