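import Mathlib
import Cfsg.Agent.Lib.Helper2.SylowRel

set_option autoImplicit false

namespace Cfsg.Agent.Lib.Helper2

open Subgroup MulAction

variable {G : Type*} [Group G]

/-- The conjugation action of a subgroup `Q ≤ N_G(P)` on `P`. -/
@[reducible] def conjActOn (Q P : Subgroup G) (h : Q ≤ normalizer (P : Set G)) : MulAction Q P where
  smul q x := ⟨q * x * (q : G)⁻¹, (mem_normalizer_iff.mp (h q.2) x).mp x.2⟩
  one_smul x := by
    apply Subtype.ext
    change ((1 : Q) : G) * x * ((1 : Q) : G)⁻¹ = x
    simp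
  mul_smul a b x := by
    apply Subtype.ext
    change ((a * b : Q) : G) * x * ((a * b : Q) : G)⁻¹ = a * (b * x * (b : G)⁻¹) * (a : G)⁻¹
    simp [mul_assoc]

/-- A `q`-group `Q` normalizing a group `P` of order `p^k`, where `q ∤ p^k - p^j` for all `j < k`,
centralizes `P`. -/
theorem le_centralizer_of_not_dvd_sub [Finite G] {p q k : ℕ} [Fact p.Prime] [Fact q.Prime]
    (P Q : Subgroup G) (hP : Nat.card P = p ^ k) (hQ : IsPGroup q Q)
    (hQP : Q ≤ normalizer (P : Set G)) (hq : ∀ j < k, ¬ q ∣ p ^ k - p ^ j) :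
    Q ≤ centralizer (P : Set G) := by
  have hp : p.Prime := Fact.out
  letI := conjActOn Q P hQP
  have h1 := hQ.card_modEq_card_fixedPoints P
  -- fixed points correspond to P ⊓ centralizer Q
  have h2 : Nat.card (fixedPoints Q P) = Nat.card (P ⊓ centralizer (Q : Set G) : Subgroup G) := by
    apply Nat.card_congr
    refine ⟨fun x => ⟨x.1.1, x.1.2, ?_⟩, fun y => ⟨⟨y.1, y.2.1⟩, ?_⟩, ?_, ?_⟩
    · change (x.1 : G) ∈ centralizer (Q : Set G)
      rw [mem_centralizer_iff]
      intro c hc
      have := x.2 ⟨c, hc⟩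
      have h3 : c * (x.1 : G) * c⁻¹ = x.1 := congrArg Subtype.val this
      have h4 := congrArg (· * c) h3
      simpa using h4
    · intro c
      apply Subtype.ext
      change (c : G) * y.1 * (c : G)⁻¹ = y.1
      have := (mem_centralizer_iff.mp y.2.2) c c.2
      rw [this, mul_assoc, mul_inv_cancel, mul_one]
    · intro x; rfl
    · intro y; rfl
  rw [h2, hP] at h1
  have h3 : Nat.card (P ⊓ centralizer (Q : Set G) : Subgroup G) ∣ p ^ k := by
    rw [← hP]; exact Subgroup.card_dvd_of_le inf_le_left
  obtain ⟨j, hj, hj'⟩ := (Nat.dvd_prime_pow hp).mp h3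
  rw [hj'] at h1
  rcases lt_or_eq_of_le hj with hlt | rfl
  · exfalso
    apply hq j hlt
    exact (Nat.modEq_iff_dvd' (Nat.pow_le_pow_right hp.pos hj)).mp h1.symm
  · have h4 : P ⊓ centralizer (Q : Set G) = P := by
      apply Subgroup.eq_of_le_of_card_ge inf_le_left
      rw [hj', hP]
    have h5 : P ≤ centralizer (Q : Set G) := inf_eq_left.mp h4
    exact Subgroup.le_centralizer_iff.mp h5

/-- If `P` is an abelian Sylow `p`-subgroup of order `p^k` and no prime `q ≠ p` dividing `|G|` divides
some `p^k - p^j`, `j < k`, then `N_G(P) ≤ C_G(P)`. -/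
theorem normalizer_le_centralizer_of_not_dvd_sub [Finite G] {p k : ℕ} [Fact p.Prime] (P : Sylow p G)
    (hc : IsMulCommutative P) (hP : Nat.card P = p ^ k)
    (hq : ∀ q : ℕ, q.Prime → q ≠ p → q ∣ Nat.card G → ∀ j < k, ¬ q ∣ p ^ k - p ^ j) :
    normalizer (P : Set G) ≤ centralizer (P : Set G) := by
  set N := normalizer (P : Set G) with hN
  set C := centralizer (P : Set G) with hC
  have key : C.subgroupOf N = ⊤ := by
    apply eq_top_of_forall_sylow_le
    intro q hqf
    by_cases hqp : q = p
    · subst hqp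
      refine ⟨P.subtype le_normalizer, ?_⟩
      rw [Sylow.coe_subtype]
      intro x hx
      rw [mem_subgroupOf] at hx ⊢
      exact P.le_centralizer hx
    · obtain ⟨Q⟩ : Nonempty (Sylow q N) := inferInstance
      refine ⟨Q, ?_⟩
      by_cases hQ : (Q : Subgroup N) = ⊥
      · rw [hQ]; exact bot_le
      · have hqd : q ∣ Nat.card G := by
          obtain ⟨m, hm⟩ := Q.2.exists_card_eq
          have hm0 : m ≠ 0 := by
            rintro rfl
            rw [pow_zero] at hm
            exact hQ (Subgroup.card_eq_one.mp hm)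
          have h1 : q ∣ Nat.card (Q : Subgroup N) := by
            rw [show Nat.card (Q : Subgroup N) = q ^ m from hm]; exact dvd_pow_self q hm0
          exact h1.trans ((Subgroup.card_subgroup_dvd_card _).trans (Subgroup.card_subgroup_dvd_card _))
        have h2 : (Q : Subgroup N).map N.subtype ≤ C := by
          apply le_centralizer_of_not_dvd_sub (p := p) (q := q) (k := k) (P : Subgroup G) _ hP
            (Q.2.map _)
          · rintro _ ⟨x, -, rfl⟩
            exact x.2
          · exact hq q hqf.out hqp hqd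
        intro x hx
        rw [mem_subgroupOf]
        exact h2 ⟨x, hx, rfl⟩
  exact Subgroup.subgroupOf_eq_top.mp key

end Cfsg.Agent.Lib.Helper2
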