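/-
Helper library (helper2): self-centralizing normal subgroups of an overgroup of the Fitting subgroup
of a solvable group which is stable for all relevant primes.
-/
import Cfsg.Agent.Lib.Helper34.PStable3
import Cfsg.Agent.Lib.Helper71.Fitting
import Cfsg.Agent.Lib.Helper1.Fitting
import Cfsg.Agent.Lib.Helper24.Rank2Fitting
import Cfsg.Agent.Lib.Helper11.Solv
import Cfsg.Agent.S0044

set_option autoImplicit false

namespace Cfsg.Agent.Lib.Helper2

open Cfsg Cfsg.Agent.Lib.Helper34

/-- an element of order prime to `s` acting quadratically on a normal `s`-subgroup centralizes it -/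
theorem quadOn_centralizes_of_coprime {X : Type*} [Group X] {s : ℕ} {P : Subgroup X} [hPn : P.Normal]
    (hP : IsPGroup s P) {c : X} (hq : QuadOn P c) {n : ℕ} (hc : c ^ n = 1) (hn : n.Coprime s) :
    c ∈ Subgroup.centralizer (P : Set X) := by
  rw [Subgroup.mem_centralizer_iff]
  intro x hx
  set w := c * x * c⁻¹ * x⁻¹ with hw
  have hwc : c * w * c⁻¹ = w := hq x hx
  have hwP : w ∈ P := P.mul_mem (hPn.conj_mem x hx c) (P.inv_mem hx)
  have hcomm : Commute c w := by
    have : c * w = w * c := by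
      calc c * w = (c * w * c⁻¹) * c := by group
        _ = w * c := by rw [hwc]
    exact this
  have key : ∀ k : ℕ, c ^ k * x * (c ^ k)⁻¹ = w ^ k * x := by
    intro k
    induction k with
    | zero => simp
    | succ k ih =>
      have h1 : c ^ (k + 1) * x * (c ^ (k + 1))⁻¹ = c * (c ^ k * x * (c ^ k)⁻¹) * c⁻¹ := by
        rw [pow_succ']; group
      rw [h1, ih]
      have h2 : c * (w ^ k * x) * c⁻¹ = (c * w ^ k * c⁻¹) * (c * x * c⁻¹ * x⁻¹) * x := by group
      rw [h2, ← hw]
      have h3 : c * w ^ k * c⁻¹ = w ^ k := by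
        rw [(hcomm.pow_right k).eq, mul_inv_cancel_right]
      rw [h3, pow_succ]
  have h1 := key n
  rw [hc] at h1
  have h2 : w ^ n = 1 := by
    have : w ^ n * x = 1 * x := by rw [← h1]; group
    exact mul_right_cancel this
  obtain ⟨k, hk⟩ := hP ⟨w, hwP⟩
  have hk' : w ^ (s ^ k) = 1 := congrArg Subtype.val hk
  have h4 : w ^ (Nat.gcd n (s ^ k)) = 1 := pow_gcd_eq_one.2 ⟨h2, hk'⟩
  rw [Nat.Coprime.pow_right k hn, pow_one] at h4
  have h5 : c * x * c⁻¹ * x⁻¹ = 1 := h4
  calc x * c = (c * x * c⁻¹ * x⁻¹)⁻¹ * (c * x) := by group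
    _ = c * x := by rw [h5]; simp

theorem mem_of_pow_mem_of_coprime {X : Type*} [Group X] {H : Subgroup X} {z : X} {a b : ℕ}
    (ha : z ^ a ∈ H) (hb : z ^ b ∈ H) (h : a.Coprime b) : z ∈ H := by
  have h1 := Nat.gcd_eq_gcd_ab a b
  rw [h] at h1
  have h2 : z = (z ^ a) ^ (Nat.gcdA a b) * (z ^ b) ^ (Nat.gcdB a b) := by
    rw [← zpow_natCast z a, ← zpow_natCast z b, ← zpow_mul, ← zpow_mul, ← zpow_add, ← h1]
    simp
  rw [h2]
  exact H.mul_mem (H.zpow_mem ha _) (H.zpow_mem hb _)

/-- A subgroup `Y` of a solvable group centralizing `O_s` for `s ≠ r` and acting as an `r`-group on `O_r`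
is nilpotent. -/
theorem isNilpotent_of_acts_as_pGroup {X : Type*} [Group X] [Finite X] [Group.IsSolvable X] {r : ℕ}
    [hr : Fact r.Prime] (Y : Subgroup X)
    (h1 : ∀ s : ℕ, s.Prime → s ≠ r → Y ≤ Subgroup.centralizer (pCore s X : Set X))
    (h2 : ∀ y ∈ Y, ∃ k : ℕ, y ^ r ^ k ∈ Subgroup.centralizer (pCore r X : Set X)) :
    Group.IsNilpotent Y := by
  -- `r'`-elements of `Y` are central in `Y`
  have hcent : ∀ z ∈ Y, ∀ m : ℕ, z ^ m = 1 → m.Coprime r → ∀ y ∈ Y, y * z = z * y := by
    intro z hz m hzm hm y hy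
    obtain ⟨k, hk⟩ := h2 z hz
    have hcop : Nat.Coprime (r ^ k) m := (Nat.Coprime.pow_left k hm.symm)
    have hzr : z ∈ Subgroup.centralizer (pCore r X : Set X) :=
      mem_of_pow_mem_of_coprime hk (by rw [hzm]; exact Subgroup.one_mem _) hcop
    have hzF : z ∈ fittingSubgroup X := by
      apply Cfsg.Agent.S0044.result
      apply Cfsg.Agent.Lib.Helper24.mem_centralizer_fitting
      intro q
      by_cases hq : (q : ℕ) = r
      · rw [hq]; exact hzr
      · exact h1 q q.2 hq hz
    have hmem : z ∈ Subgroup.centralizer ({y} : Set X) := by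
      apply Cfsg.Agent.Lib.Helper71.mem_of_forall_sylow_pow_index_mem
      intro s hs P
      have h3 := Cfsg.Agent.Lib.Helper71.pow_sylow_index_mem_normalCore_of_mem_fitting P hzF
      have h4 : (P : Subgroup X).normalCore ≤ pCore s X :=
        Cfsg.Agent.Lib.Helper1.le_pCore inferInstance (P.2.to_le (Subgroup.normalCore_le _))
      by_cases hsr : s = r
      · subst hsr
        obtain ⟨j, hj⟩ := (Cfsg.Agent.Lib.Helper1.pCore_isPGroup (G := X) s) ⟨_, h4 h3⟩
        have hj' : (z ^ (P : Subgroup X).index) ^ s ^ j = 1 := congrArg Subtype.val hj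
        have h5 : (z ^ (P : Subgroup X).index) ^ m = 1 := by
          rw [← pow_mul, mul_comm, pow_mul, hzm, one_pow]
        have h6 : (z ^ (P : Subgroup X).index) ^ (Nat.gcd m (s ^ j)) = 1 := pow_gcd_eq_one.2 ⟨h5, hj'⟩
        rw [Nat.Coprime.pow_right j hm, pow_one] at h6
        rw [h6]; exact Subgroup.one_mem _
      · have h5 := h1 s hs.out hsr hy
        rw [Subgroup.mem_centralizer_iff] at h5
        rw [Subgroup.mem_centralizer_singleton_iff]
        exact (h5 _ (h4 h3))
    rw [Subgroup.mem_centralizer_singleton_iff] at hmem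
    exact hmem.symm
  have hp : IsPGroup r (Y ⧸ Subgroup.center Y) := by
    intro y
    obtain ⟨y, rfl⟩ := QuotientGroup.mk_surjective y
    obtain ⟨a, m, hm, ham⟩ := Nat.exists_eq_pow_mul_and_not_dvd (orderOf_pos (y : X)).ne' r hr.out.ne_one
    refine ⟨a, ?_⟩
    rw [← QuotientGroup.mk_pow, QuotientGroup.eq_one_iff, Subgroup.mem_center_iff]
    intro y'
    apply Subtype.ext
    have := hcent ((y : X) ^ r ^ a) (Y.pow_mem y.2 _) m (by
      rw [← pow_mul, ← ham, pow_orderOf_eq_one]) ((Nat.Prime.coprime_iff_not_dvd hr.out).2 hm).symm y' y'.2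
    simpa using this
  have := hp.isNilpotent
  exact Group.of_quotient_center_nilpotent this

universe u

/-- **Core lemma.** `X` solvable, `F₁` a subgroup containing all `O_r(X)`, all the primes `r` with `O_r(X) ≠ 1` being at
least `5`; if `A` is normalized by `F₁` and `C_{F₁}(A) ≤ A`, then `C_X(A) ≤ A`. -/
theorem centralizer_le_of_scn {X : Type u} [Group X] [Finite X] [Group.IsSolvable X] (F₁ A : Subgroup X)
    (hcore : ∀ r : ℕ, r.Prime → pCore r X ≤ F₁)
    (hst : ∀ r : ℕ, r.Prime → pCore r X ≠ ⊥ → 5 ≤ r)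
    (hn : F₁ ≤ Subgroup.normalizer (A : Set X))
    (hc : F₁ ⊓ Subgroup.centralizer (A : Set X) ≤ A) :
    Subgroup.centralizer (A : Set X) ≤ A := by
  have hquad : ∀ c ∈ Subgroup.centralizer (A : Set X), ∀ r : ℕ, r.Prime → QuadOn (pCore r X) c := by
    intro c hcA r hr x hx
    have hxF : x ∈ F₁ := hcore r hr hx
    have hwF : c * x * c⁻¹ * x⁻¹ ∈ F₁ := by
      apply hcore r hr
      exact (pCore r X).mul_mem ((Cfsg.Agent.Lib.Helper1.pCore_normal r).conj_mem x hx c)
        ((pCore r X).inv_mem hx)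
    have hwC : c * x * c⁻¹ * x⁻¹ ∈ Subgroup.centralizer (A : Set X) := by
      rw [Subgroup.mem_centralizer_iff]
      intro a ha
      have ha' : x⁻¹ * a * x ∈ A := by
        have := (Subgroup.mem_normalizer_iff.mp (F₁.inv_mem hxF |> fun h => hn h) a).mp ha
        simpa using this
      rw [Subgroup.mem_centralizer_iff] at hcA
      have e1 := hcA _ ha'
      have e2 := hcA _ ha
      -- a * w = w * a
      have e3 : c⁻¹ * (x⁻¹ * a * x) * c = x⁻¹ * a * x := by
        rw [mul_assoc, e1]; group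
      have e4 : c * a * c⁻¹ = a := by rw [← e2]; group
      calc a * (c * x * c⁻¹ * x⁻¹) = (c * a * c⁻¹) * (c * x * c⁻¹ * x⁻¹) := by rw [e4]
        _ = c * x * (x⁻¹ * a * x) * c⁻¹ * x⁻¹ := by group
        _ = c * x * (c⁻¹ * (x⁻¹ * a * x) * c) * c⁻¹ * x⁻¹ := by rw [e3]
        _ = c * x * c⁻¹ * x⁻¹ * a := by group
    have hwA : c * x * c⁻¹ * x⁻¹ ∈ A := hc ⟨hwF, hwC⟩
    rw [Subgroup.mem_centralizer_iff] at hcA
    rw [← hcA _ hwA, mul_inv_cancel_right]
  have hprime : ∀ (r : ℕ) [Fact r.Prime], ∀ c ∈ Subgroup.centralizer (A : Set X), ∀ k : ℕ,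
      c ^ r ^ k = 1 → c ∈ fittingSubgroup X := by
    intro r hr c hcA k hck
    have hother : ∀ s : ℕ, s.Prime → s ≠ r → c ∈ Subgroup.centralizer (pCore s X : Set X) := by
      intro s hs hsr
      exact quadOn_centralizes_of_coprime (Cfsg.Agent.Lib.Helper1.pCore_isPGroup s) (hquad c hcA s hs) hck
        (Nat.Coprime.pow_left k ((Nat.coprime_primes hr.out hs).2 (Ne.symm hsr)))
    by_cases hb : pCore r X = ⊥
    · apply Cfsg.Agent.S0044.result
      apply Cfsg.Agent.Lib.Helper24.mem_centralizer_fitting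
      intro q
      by_cases hq : (q : ℕ) = r
      · rw [hq, hb]; simp [Subgroup.mem_centralizer_iff]
      · exact hother q q.2 hq
    · have hQ : QStable r X := qStable_of_isPSolvable (hst r hr.out hb)
        (Cfsg.Agent.Lib.Helper11.isPSolvable_of_isSolvable r inferInstance)
      obtain ⟨M, hMn, hcM, hM⟩ := hQ (pCore r X) c inferInstance (Cfsg.Agent.Lib.Helper1.pCore_isPGroup r)
        (hquad c hcA r hr.out)
      let Xr : Subgroup X := ⨅ s : {s : ℕ // s.Prime ∧ s ≠ r}, Subgroup.centralizer (pCore (s : ℕ) X : Set X)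
      have hXrn : Xr.Normal := Subgroup.normal_iInf_normal fun s => inferInstance
      have hYn : (M ⊓ Xr).Normal := inferInstance
      have hYnil : Group.IsNilpotent ↥(M ⊓ Xr) := by
        apply isNilpotent_of_acts_as_pGroup (r := r)
        · intro s hs hsr
          exact inf_le_right.trans (iInf_le _ (⟨s, hs, hsr⟩ : {s : ℕ // s.Prime ∧ s ≠ r}))
        · intro y hy
          exact hM y hy.1
      apply Cfsg.Agent.Lib.Helper1.le_fittingSubgroup hYn hYnil
      have hcX : c ∈ Xr := by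
        rw [Subgroup.mem_iInf]
        intro s
        exact hother s s.2.1 s.2.2
      exact ⟨hcM, hcX⟩
  have hCF : Subgroup.centralizer (A : Set X) ≤ fittingSubgroup X := by
    intro c hcA
    apply Cfsg.Agent.Lib.Helper71.mem_of_forall_sylow_pow_index_mem
    intro s hs P
    obtain ⟨k, hk⟩ := IsPGroup.iff_card.1 P.2
    apply hprime s _ (Subgroup.pow_mem _ hcA _) k
    rw [← hk, ← pow_mul, mul_comm, Subgroup.card_mul_index, pow_card_eq_one']
  have hF : fittingSubgroup X ≤ F₁ := by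
    rw [Cfsg.Agent.Lib.Helper1.fittingSubgroup_eq_iSup_pCore]
    exact iSup_le fun q => hcore q q.2
  intro c hcA
  exact hc ⟨hF (hCF hcA), hcA⟩

end Cfsg.Agent.Lib.Helper2
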