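import Cfsg.Agent.Lib.Helper74.SymAlgCen

/-!
# Piece T4 of the S4648 farm (helper2): the symmetrizing form on the centralizer of matrix units
-/

set_option autoImplicit false

namespace Cfsg.Agent.Lib.Helper2.SymAlgT4

open Module Cfsg.Agent.Lib.Helper74.SymAlg

variable {F A : Type*} [Field F] [Ring A] [Algebra F A]

/-- the coefficient `c_{ij}(x) = ∑ k, a k i * x * a j k` lies in the centralizer. -/
theorem coeff_mem {n : ℕ} (a : Fin n → Fin n → A)
    (hmul : ∀ i j k l, a i j * a k l = if j = k then a i l else 0) (i j : Fin n) (x : A) :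
    ∑ k, a k i * x * a j k ∈ cenU F a := by
  rw [Subalgebra.mem_centralizer_iff]
  rintro _ ⟨⟨r, s⟩, rfl⟩
  simp only
  rw [Finset.mul_sum, Finset.sum_mul]
  have h1 : ∀ k, a r s * (a k i * x * a j k) = if s = k then a r i * x * a j k else 0 := by
    intro k
    rw [← mul_assoc, ← mul_assoc, hmul]
    split_ifs <;> simp
  have h2 : ∀ k, a k i * x * a j k * a r s = if k = r then a k i * x * a j s else 0 := by
    intro k
    rw [mul_assoc, hmul]
    split_ifs <;> simp
  simp only [h1, h2, Finset.sum_ite_eq, Finset.sum_ite_eq', Finset.mem_univ, if_true]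

theorem comm_of_mem {n : ℕ} (a : Fin n → Fin n → A) {c : A} (hc : c ∈ cenU F a) (i j : Fin n) :
    a i j * c = c * a i j := by
  rw [Subalgebra.mem_centralizer_iff] at hc
  exact hc _ ⟨(i, j), rfl⟩

theorem T4 {n : ℕ} (a : Fin n → Fin n → A)
    (hmul : ∀ i j k l, a i j * a k l = if j = k then a i l else 0) (hone : ∑ i, a i i = 1)
    (i₀ : Fin n) {lam : A →ₗ[F] F} (h : IsSymForm lam) :
    IsSymForm ((lam ∘ₗ LinearMap.mulRight F (a i₀ i₀)) ∘ₗ (cenU F a).val.toLinearMap) := by
  have hee : a i₀ i₀ * a i₀ i₀ = a i₀ i₀ := by rw [hmul]; simp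
  constructor
  · rintro ⟨c, hc⟩ ⟨c', hc'⟩
    simp only [LinearMap.comp_apply, AlgHom.toLinearMap_apply, Subalgebra.coe_val,
      LinearMap.mulRight_apply, MulMemClass.mk_mul_mk]
    rw [mul_assoc, h.symm, mul_assoc, comm_of_mem a hc, mul_assoc]
  · rintro ⟨c, hc⟩ hall
    have hce : c * a i₀ i₀ = 0 := by
      apply h.nondeg
      intro x
      have hx := hall ⟨_, coeff_mem (F := F) a hmul i₀ i₀ x⟩
      simp only [LinearMap.comp_apply, AlgHom.toLinearMap_apply, Subalgebra.coe_val,
        LinearMap.mulRight_apply, MulMemClass.mk_mul_mk] at hx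
      have h3 : (∑ k, a k i₀ * x * a i₀ k) * a i₀ i₀ = a i₀ i₀ * x * a i₀ i₀ := by
        rw [Finset.sum_mul]
        have h2 : ∀ k, a k i₀ * x * a i₀ k * a i₀ i₀
            = if k = i₀ then a k i₀ * x * a i₀ i₀ else 0 := by
          intro k
          rw [mul_assoc, hmul]
          split_ifs <;> simp
        simp only [h2, Finset.sum_ite_eq', Finset.mem_univ, if_true]
      calc lam (c * a i₀ i₀ * x) = lam ((c * a i₀ i₀) * (a i₀ i₀ * x)) := by
            rw [← mul_assoc (c * a i₀ i₀), mul_assoc c (a i₀ i₀) (a i₀ i₀), hee]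
        _ = lam ((a i₀ i₀ * x) * (c * a i₀ i₀)) := h.symm _ _
        _ = lam ((a i₀ i₀ * x * a i₀ i₀) * c) := by
            rw [← comm_of_mem a hc, ← mul_assoc]
        _ = lam (c * (a i₀ i₀ * x * a i₀ i₀)) := h.symm _ _
        _ = 0 := by rw [← h3, ← mul_assoc]; exact hx
    have hc0 : c = 0 := by
      calc c = c * ∑ k, a k k := by rw [hone, mul_one]
        _ = ∑ k, a k i₀ * (c * a i₀ i₀) * a i₀ k := by
            rw [Finset.mul_sum]
            refine Finset.sum_congr rfl fun k _ => ?_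
            rw [← mul_assoc, comm_of_mem a hc, mul_assoc c, hmul, if_pos rfl, mul_assoc, hmul,
              if_pos rfl]
        _ = 0 := by simp [hce]
    exact Subtype.ext hc0

end Cfsg.Agent.Lib.Helper2.SymAlgT4
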