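import Cfsg.Agent.Lib.Helper74.SymAlgCen

/-!
# Piece T5 of the S4648 farm (helper2): the centralizer of matrix units is local with residue
field `F`
-/

set_option autoImplicit false

namespace Cfsg.Agent.Lib.Helper2.SymAlgT5

open Module Cfsg.Agent.Lib.Helper74.SymAlg

variable {F A : Type*} [Field F] [Ring A] [Algebra F A] [FiniteDimensional F A]

theorem isNilpotent_of_mem_jacobson (F : Type*) {A : Type*} [Field F] [Ring A] [Algebra F A]
    [FiniteDimensional F A] {x : A} (hx : x ∈ Ring.jacobson A) : IsNilpotent x := by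
  have hart : IsArtinianRing A := IsArtinianRing.of_finite F A
  obtain ⟨k, hk⟩ := IsSemiprimaryRing.isNilpotent (R := A)
  refine ⟨k, ?_⟩
  have := Ideal.pow_mem_pow hx k
  rw [hk] at this
  simpa using this

theorem T5 {n : ℕ} (a : Fin n → Fin n → A)
    (_hmul : ∀ i j k l, a i j * a k l = if j = k then a i l else 0) (_hone : ∑ i, a i i = 1)
    (i₀ : Fin n)
    (φ : A →ₐ[F] Matrix (Fin n) (Fin n) F) (hφ : ∀ i j, φ (a i j) = Matrix.single i j 1)
    (hJ : ∀ x, φ x = 0 ↔ x ∈ Ring.jacobson A) :
    ∃ π : cenU F a →ₐ[F] F, ∀ x, π x = 0 ↔ x ∈ Ring.jacobson (cenU F a) := by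
  -- `φ c` is scalar
  have hsc : ∀ c : cenU F a, φ (c : A) = Matrix.scalar (Fin n) (φ (c : A) i₀ i₀) := by
    intro c
    have hc := c.2
    rw [Subalgebra.mem_centralizer_iff] at hc
    have : φ (c : A) ∈ Set.range (Matrix.scalar (Fin n)) := by
      rw [Matrix.mem_range_scalar_iff_commute_single']
      intro i j
      have h1 := hc (a i j) ⟨(i, j), rfl⟩
      have h2 := congrArg φ h1
      rw [map_mul, map_mul, hφ] at h2
      exact h2
    obtain ⟨r, hr⟩ := this
    rw [← hr]
    simp
  let π : cenU F a →ₐ[F] F :=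
    { toFun := fun c => φ (c : A) i₀ i₀
      map_one' := by simp
      map_mul' := by
        intro c c'
        have h1 : φ ((c * c' : cenU F a) : A) = φ (c : A) * φ (c' : A) := by
          rw [← map_mul]; rfl
        rw [h1, hsc c, hsc c']
        simp
      map_zero' := by simp
      map_add' := by
        intro c c'
        simp
      commutes' := by
        intro r
        have h1 : ((algebraMap F (cenU F a) r : cenU F a) : A) = algebraMap F A r := rfl
        rw [h1, AlgHom.commutes]
        simp [Matrix.algebraMap_matrix_apply] }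
  have hπ : ∀ c : cenU F a, π c = φ (c : A) i₀ i₀ := fun c => rfl
  refine ⟨π, fun x => ⟨fun hx => ?_, fun hx => ?_⟩⟩
  · rw [← Ideal.jacobson_bot, Ideal.mem_jacobson_iff]
    intro y
    have h0 : π (y * x) = 0 := by rw [map_mul, hx, mul_zero]
    have h1 : φ ((y * x : cenU F a) : A) = 0 := by
      rw [hsc, ← hπ, h0]; simp
    obtain ⟨k, hk⟩ := isNilpotent_of_mem_jacobson F ((hJ _).mp h1)
    have hnil : IsNilpotent (y * x) := ⟨k, Subtype.ext (by simpa using hk)⟩
    obtain ⟨u, hu⟩ := hnil.isUnit_one_add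
    refine ⟨(u⁻¹ : (cenU F a)ˣ), ?_⟩
    rw [Ideal.mem_bot]
    have h2 : ((u⁻¹ : (cenU F a)ˣ) : cenU F a) * (1 + y * x) = 1 := by
      rw [← hu]; simp
    rw [mul_add, mul_one, ← mul_assoc] at h2
    rw [add_comm, h2, sub_self]
  · have hsurj : Function.Surjective π := by
      intro r
      exact ⟨algebraMap F _ r, by rw [AlgHom.commutes]; rfl⟩
    have hmax : (RingHom.ker π).IsMaximal := RingHom.ker_isMaximal_of_surjective π hsurj
    exact (RingHom.mem_ker (f := π)).mp (Ring.jacobson_le_of_isMaximal (RingHom.ker π) hx)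

end Cfsg.Agent.Lib.Helper2.SymAlgT5
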